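import Cfsg.Agent.Lib.RuRankThree.BridgePairs

/-!
The point stabiliser is ²F₄(2): both act on 1755 vectors of the adjoint module.
-/
set_option autoImplicit false
set_option maxRecDepth 8000
set_option Elab.async false

namespace CfsgLib.RuRankThree

open scoped Matrix
open Cfsg.Lie
open CfsgLib.Presented CfsgLib.Presented.Vec
open CfsgLib.Twisted (G2F4)

attribute [local irreducible] bitCount grow applyNet el phi

/-- the elements of ²F₄(2) paired with 1 -/
noncomputable def kerL : Subgroup G2F4 := pairs.comap (MonoidHom.inl G2F4 H)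

theorem kerL_bot : kerL = ⊥ := by
  by_contra hne
  have hn : kerL.Normal := ⟨fun n hn g => by
    obtain ⟨x, hx⟩ := fst_surj g
    have := pairs.mul_mem (pairs.mul_mem hx (show (n, (1 : H)) ∈ pairs from hn)) (pairs.inv_mem hx)
    show (g * n * g⁻¹, (1 : H)) ∈ pairs
    simpa using this⟩
  have hD := CfsgLib.Twisted.derived_le_normal hn hne
  have hidx := Subgroup.index_dvd_of_le hD
  rw [CfsgLib.Twisted.derived_facts.2] at hidx
  have h := words_ok
  simp only [Bool.and_eq_true, Bool.not_eq_true'] at h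
  have el_pair : ∀ j, j < 2 → ∃ g : G2F4, (g, (⟨el (68 + j), el_mem_H (by omega)⟩ : H)) ∈ pairs := by
    intro j hj
    have key : ∀ (r rbar : ℕ), f4PairWord 1 r rbar (1 : ZMod 2) ∈ f4Words (ZMod 2) 1 →
        chevF4.wordMat (ZMod 2) (f4PairWord 1 r rbar 1) = wMat (chevWords.getD j []) →
        ∃ g : G2F4, (g, (⟨el (68 + j), el_mem_H (by omega)⟩ : H)) ∈ pairs := by
      intro r rbar hm he
      have hu : IsUnit (chevF4.wordMat (ZMod 2) (f4PairWord 1 r rbar 1)) := by
        refine List.prod_induction IsUnit (fun _ _ => IsUnit.mul) isUnit_one ?_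
        intro a ha
        obtain ⟨q, -, rfl⟩ := List.mem_map.1 ha
        exact CfsgLib.Chev.F4.cert.isUnit_x _ _
      exact ⟨⟨hu.unit, Subgroup.subset_closure ⟨_, hm, hu.unit_spec⟩⟩, word_pair (by omega) (hu.unit_spec.trans he)⟩
    interval_cases j
    · exact key f4p1 f4p4 (Or.inl ⟨1, Or.inl rfl⟩)
        (by simp [ChevalleyDatum.wordMat, f4PairWord, wMat, chevWords, rootList, f4p1, f4p4])
    · exact key f4m1 f4m4 (Or.inl ⟨1, Or.inr rfl⟩)
        (by simp [ChevalleyDatum.wordMat, f4PairWord, wMat, chevWords, rootList, f4m1, f4m4])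
  obtain ⟨g0, h0⟩ := el_pair 0 (by norm_num)
  obtain ⟨g1, h1⟩ := el_pair 1 (by norm_num)
  have hsq : ((g0 * g1) ^ 2, (1 : H)) ∈ pairs := by
    rcases (Nat.dvd_prime Nat.prime_two).1 hidx with hi | hi
    · show (g0 * g1) ^ 2 ∈ kerL
      rw [Subgroup.index_eq_one.1 hi]
      exact Subgroup.mem_top _
    · exact Subgroup.sq_mem_of_index_two hi _
  have hx := pairs.mul_mem (pairs.inv_mem hsq) (pairs.pow_mem (pairs.mul_mem h0 h1) 2)
  have hfix : ∀ p : Pt, vecL p = vecL (phi ((el 68 * el 69) ^ 2) p) := fun p => by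
    have := hx p
    simpa using this
  have hag : agreeOn 4060 (applyNet (netPow (netEl 68 ++ netEl 69) 2) (slicesL.getD 0 0)) (slicesL.getD 0 0) = true := by
    show Nat.beq _ _ = true
    rw [Nat.beq_eq]
    refine Nat.eq_of_testBit_eq fun i => ?_
    simp only [Nat.testBit_and, testBit_ones, land_eq]
    rcases lt_or_ge i 4060 with hi | hi
    · have e := congrFun (hfix ⟨i, hi⟩) (dec52 0)
      have hn : NetOf (netPow (netEl 68 ++ netEl 69) 2) (phi ((el 68 * el 69) ^ 2)) := by
        rw [map_pow, map_mul]; exact ((net_el 68).mul (net_el 69)).pow 2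
      rw [show i = ((⟨i, hi⟩ : Pt) : ℕ) from rfl, hn.bit]
      simp only [vecL, coord, show enc (dec52 0) = 0 from rfl] at e
      refine congrArg (· && _) ?_
      revert e
      generalize (slicesL.getD 0 0).testBit (phi ((el 68 * el 69) ^ 2) ⟨i, hi⟩ : ℕ) = s
      generalize (slicesL.getD 0 0).testBit ((⟨i, hi⟩ : Pt) : ℕ) = t
      revert s t
      decide
    · simp [not_lt.2 hi]
  rw [hag] at h
  exact absurd h.2 (by decide)

/-- ²F₄(2) is the point stabiliser. -/
theorem nonempty_equiv : Nonempty (twistedF4 (ZMod 2) 1 ≃* H) := by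
  have := finite_R0
  have : Finite G2F4 := Nat.finite_of_card_ne_zero (by rw [CfsgLib.Twisted.card_2F4]; norm_num)
  let p1 : pairs →* G2F4 := (MonoidHom.fst G2F4 H).comp pairs.subtype
  let p2 : pairs →* H := (MonoidHom.snd G2F4 H).comp pairs.subtype
  have h1 : Function.Surjective p1 := fun g => by
    obtain ⟨x, hx⟩ := fst_surj g
    exact ⟨⟨(g, x), hx⟩, rfl⟩
  have h2 : Function.Injective p2 := by
    refine (injective_iff_map_eq_one p2).2 fun ⟨⟨g, x⟩, hp⟩ e => ?_
    change x = 1 at e
    subst e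
    have : g ∈ kerL := hp
    rw [kerL_bot, Subgroup.mem_bot] at this
    subst this
    rfl
  have c1 := Nat.card_le_card_of_surjective p1 h1
  have c2 := Nat.card_le_card_of_injective p2 h2
  have e : Nat.card G2F4 = Nat.card H := by rw [CfsgLib.Twisted.card_2F4, card_H]
  exact ⟨(MulEquiv.ofBijective p1 (h1.bijective_of_nat_card_le (by omega))).symm.trans
    (MulEquiv.ofBijective p2 (h2.bijective_of_nat_card_le (by omega)))⟩

end CfsgLib.RuRankThree
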