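import Cfsg.Agent.Lib.RuRankThree.Norm
import Cfsg.Agent.Lib.TwistedStr.TitsSimple
import Cfsg.Agent.Lib.Chev.CertF4

/-!
The generators of ²F₄(2) act on 1755 vectors of the adjoint module like elements of the point stabiliser.
-/
set_option autoImplicit false
set_option maxRecDepth 8000
set_option Elab.async false

namespace CfsgLib.RuRankThree

open scoped Matrix
open Cfsg.Lie
open CfsgLib.Presented CfsgLib.Presented.Vec
open CfsgLib.Twisted (G2F4)

attribute [local irreducible] bitCount grow applyNet el phi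

/-- the number of a coordinate -/
def enc : chevF4.Idx → ℕ
  | Sum.inl i => i.val
  | Sum.inr r => 4 + r.val

/-- the coordinate of a number -/
def dec52 (k : ℕ) : chevF4.Idx :=
  if h : k < 4 then Sum.inl ⟨k, h⟩ else Sum.inr ⟨(k - 4) % 48, Nat.mod_lt _ (by norm_num)⟩

theorem sum_idx (f : ℕ → ZMod 2) : ∑ t : chevF4.Idx, f (enc t) = ∑ k ∈ Finset.range 52, f k := by
  refine Finset.sum_bij (fun t _ => enc t) (fun t _ => ?_) (fun s _ t _ e => ?_) (fun k hk => ?_) fun _ _ => rfl
  · rcases t with ⟨i, hi⟩ | ⟨i, hi⟩ <;> simp only [enc, Finset.mem_range] <;>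
      · simp only [chevF4] at hi
        omega
  · rcases s with ⟨i, hi⟩ | ⟨i, hi⟩ <;> rcases t with ⟨j, hj⟩ | ⟨j, hj⟩ <;> simp only [enc] at e <;>
      simp only [chevF4] at hi hj <;> first | omega | (congr; omega) | skip
    all_goals simp_all
  · rw [Finset.mem_range] at hk
    refine ⟨dec52 k, Finset.mem_univ _, ?_⟩
    unfold dec52
    split
    · rfl
    · show 4 + (k - 4) % 48 = k
      omega

/-- vector `p` -/
noncomputable def vecL (p : Pt) : chevF4.Idx → ZMod 2 := fun t => coord slicesL p (enc t)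

/-- the entries of a root matrix -/
def rowsFn (i b c : ℕ) : Bool := ((rootRows.getD i []).getD b 0).testBit c

/-- the tabulated root matrix -/
def rtab (i : ℕ) : Matrix chevF4.Idx chevF4.Idx (ZMod 2) :=
  Matrix.of fun s t => cond (rowsFn i (enc s) (enc t)) 1 0

theorem root_table : ∀ i : Fin 12, chevF4.x (ZMod 2) (rootList.getD i 0) 1 = rtab i := by decide +kernel

/-- the slices after applying a word of root elements -/
noncomputable def applyWord : List ℕ → List ℕ
  | [] => slicesL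
  | i :: w => applyRows (applyWord w) 52 (rowsFn i)

/-- the matrix of a word of root elements -/
noncomputable def wMat (w : List ℕ) : Matrix chevF4.Idx chevF4.Idx (ZMod 2) :=
  (w.map fun i => chevF4.x (ZMod 2) (rootList.getD i 0) 1).prod

theorem enc_lt (t : chevF4.Idx) : enc t < 52 := by
  rcases t with ⟨i, hi⟩ | ⟨i, hi⟩ <;> simp only [enc] <;> simp only [chevF4] at hi <;> omega

theorem wMat_vecL : ∀ {w : List ℕ}, (∀ i ∈ w, i < 12) → ∀ (p : Pt) (t : chevF4.Idx),
    (wMat w *ᵥ vecL p) t = coord (applyWord w) p (enc t)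
  | [], _, p, t => by simp [wMat, vecL, applyWord]
  | i :: w, h, p, t => by
    rw [wMat, List.map_cons, List.prod_cons, ← Matrix.mulVec_mulVec,
      show ((w.map fun j => chevF4.x (ZMod 2) (rootList.getD j 0) 1).prod *ᵥ vecL p) =
        fun s => coord (applyWord w) p (enc s) from
        funext (wMat_vecL (w := w) (fun j hj => h j (List.mem_cons_of_mem _ hj)) p),
      applyWord, coord_applyRows _ _ _ (enc_lt t), show chevF4.x (ZMod 2) (rootList.getD i 0) 1 = rtab i from
        root_table ⟨i, h i List.mem_cons_self⟩, Matrix.mulVec, dotProduct]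
    exact sum_idx fun k => cond (rowsFn i (enc t) k) 1 0 * coord (applyWord w) p k

theorem words_ok : (Nat.beq chevWords.length 8 && chevWords.all (fun w => w.all fun i => Nat.blt i 12) &&
    (List.range 8).all (fun j => moveB (netEl (68 + j)) slicesL (applyWord (chevWords.getD j [])) 52) &&
    !(agreeOn 4060 (applyNet (netPow (netEl 68 ++ netEl 69) 2) (slicesL.getD 0 0)) (slicesL.getD 0 0))) = true := by
  decide +kernel

/-- the pairs acting alike -/
noncomputable def pairs : Subgroup (G2F4 × H) where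
  carrier := {gx | ∀ p : Pt, gx.1.1.1 *ᵥ vecL p = vecL (phi gx.2.1 p)}
  one_mem' p := by simp
  mul_mem' {a b} ha hb p := by
    have ea := ha (phi b.2.1 p)
    have eb := hb p
    show ((a.1.1 * b.1.1 : GL chevF4.Idx (ZMod 2)) : Matrix chevF4.Idx chevF4.Idx (ZMod 2)) *ᵥ vecL p =
      vecL (phi (a.2.1 * b.2.1) p)
    rw [Units.val_mul, ← Matrix.mulVec_mulVec, eb, ea, map_mul, Equiv.Perm.mul_apply]
  inv_mem' {a} ha p := by
    have e := ha ((phi a.2.1)⁻¹ p)
    rw [Equiv.Perm.inv_def, Equiv.apply_symm_apply] at e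
    show ((a.1.1⁻¹ : GL chevF4.Idx (ZMod 2)) : Matrix chevF4.Idx chevF4.Idx (ZMod 2)) *ᵥ vecL p =
      vecL (phi (a.2.1⁻¹) p)
    rw [map_inv, Equiv.Perm.inv_def, ← e, Matrix.mulVec_mulVec, ← Units.val_mul, inv_mul_cancel, Units.val_one,
      Matrix.one_mulVec]

theorem mem_pairs {g : G2F4} {x : H} : (g, x) ∈ pairs ↔ ∀ p : Pt, g.1.1 *ᵥ vecL p = vecL (phi x.1 p) := Iff.rfl

theorem word_pair {j : ℕ} (hj : j < 8) {g : G2F4} (hg : g.1.1 = wMat (chevWords.getD j [])) :
    (g, (⟨el (68 + j), el_mem_H (by omega)⟩ : H)) ∈ pairs := by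
  have h := words_ok
  simp only [Bool.and_eq_true, List.all_eq_true (l := chevWords), List.all_eq_true (l := List.range 8),
    List.mem_range] at h
  obtain ⟨⟨⟨hlen, hlt⟩, hmv⟩, -⟩ := h
  have hlen' : chevWords.length = 8 := Nat.eq_of_beq_eq_true hlen
  refine mem_pairs.2 fun p => funext fun t => ?_
  rw [hg, wMat_vecL (fun i hi => ?_), vecL, coord_move (net_el _) (hmv j hj) p (enc_lt t)]
  have hm : chevWords.getD j [] ∈ chevWords := by
    rw [List.getD_eq_getElem _ _ (hlen'.symm ▸ hj)]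
    exact List.getElem_mem _
  have := List.all_eq_true.1 (hlt _ hm) i hi
  rwa [Nat.blt_eq] at this

theorem fst_surj (g : G2F4) : ∃ x, (g, x) ∈ pairs := by
  obtain ⟨g, hg⟩ := g
  let S : Subgroup (GL chevF4.Idx (ZMod 2)) := (pairs.map (MonoidHom.fst G2F4 H)).map G2F4.subtype
  suffices hle : G2F4 ≤ S by
    obtain ⟨g', ⟨⟨g'', x⟩, hx, rfl⟩, e⟩ := hle hg
    exact ⟨x, by rw [← (Subtype.ext e : g'' = ⟨g, hg⟩)]; exact hx⟩
  refine (Subgroup.closure_le _).2 fun y hy => ?_
  suffices ∃ h : y ∈ G2F4, ∃ x, ((⟨y, h⟩ : G2F4), x) ∈ pairs by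
    obtain ⟨h, x, hx⟩ := this
    exact ⟨⟨y, h⟩, ⟨(⟨y, h⟩, x), hx, rfl⟩, rfl⟩
  · have hyG : y ∈ G2F4 := Subgroup.subset_closure hy
    obtain ⟨w, hw, e⟩ := hy
    refine ⟨hyG, ?_⟩
    have triv : chevF4.wordMat (ZMod 2) w = 1 → ∃ x, ((⟨y, hyG⟩ : G2F4), x) ∈ pairs := fun h1 =>
      ⟨1, mem_pairs.2 fun p => by rw [e, h1, Matrix.one_mulVec]; simp⟩
    have idx : ∀ j, j < 8 → chevF4.wordMat (ZMod 2) w = wMat (chevWords.getD j []) →
        ∃ x, ((⟨y, hyG⟩ : G2F4), x) ∈ pairs := fun j hj hjw => ⟨_, word_pair hj (g := ⟨y, hyG⟩) (e.trans hjw)⟩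
    have z : ∀ r, chevF4.x (ZMod 2) r (0 : ZMod 2) = 1 := fun r => CfsgLib.Chev.F4.cert.x_zero r
    have h11 : (1 : ZMod 2) + 1 = 0 := by decide
    simp only [f4Words, Set.mem_union, Set.mem_setOf_eq] at hw
    rcases hw with ⟨t, hw⟩ | ⟨t, u, hw⟩
    · rcases hw with rfl | rfl <;> rcases (by decide : ∀ v : ZMod 2, v = 0 ∨ v = 1) t with rfl | rfl
      · exact triv (by simp [ChevalleyDatum.wordMat, f4PairWord, z])
      · exact idx 0 (by norm_num) (by simp [ChevalleyDatum.wordMat, f4PairWord, wMat, chevWords, rootList, f4p1, f4p4])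
      · exact triv (by simp [ChevalleyDatum.wordMat, f4PairWord, z])
      · exact idx 1 (by norm_num) (by simp [ChevalleyDatum.wordMat, f4PairWord, wMat, chevWords, rootList, f4m1, f4m4])
    · rcases hw with rfl | rfl <;> rcases (by decide : ∀ v : ZMod 2, v = 0 ∨ v = 1) t with rfl | rfl <;>
        rcases (by decide : ∀ v : ZMod 2, v = 0 ∨ v = 1) u with rfl | rfl
      · exact triv (by simp [ChevalleyDatum.wordMat, b2ClassWord, z])
      · exact idx 3 (by norm_num) (by
          simp [ChevalleyDatum.wordMat, b2ClassWord, z, wMat, chevWords, rootList, f4a, f4b, f4ab, f4aab])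
      · exact idx 2 (by norm_num) (by
          simp [ChevalleyDatum.wordMat, b2ClassWord, z, wMat, chevWords, rootList, f4a, f4b, f4ab, f4aab])
      · exact idx 4 (by norm_num) (by
          simp [ChevalleyDatum.wordMat, b2ClassWord, z, h11, wMat, chevWords, rootList, f4a, f4b, f4ab, f4aab, mul_assoc])
      · exact triv (by simp [ChevalleyDatum.wordMat, b2ClassWord, z])
      · exact idx 6 (by norm_num) (by
          simp [ChevalleyDatum.wordMat, b2ClassWord, z, wMat, chevWords, rootList, f4ma, f4mb, f4mab, f4maab])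
      · exact idx 5 (by norm_num) (by
          simp [ChevalleyDatum.wordMat, b2ClassWord, z, wMat, chevWords, rootList, f4ma, f4mb, f4mab, f4maab])
      · exact idx 7 (by norm_num) (by
          simp [ChevalleyDatum.wordMat, b2ClassWord, z, h11, wMat, chevWords, rootList, f4ma, f4mb, f4mab, f4maab, mul_assoc])

end CfsgLib.RuRankThree
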