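import Cfsg.Agent.Lib.RuRankThree.Norm

/-!
Subgroups of the point stabiliser of orders 15600 and 20480 fix a point.
-/
set_option autoImplicit false
set_option maxRecDepth 8000
set_option Elab.async false

namespace CfsgLib.RuRankThree

open CfsgLib.Presented CfsgLib.Presented.Vec

attribute [local irreducible] bitCount grow applyNet

/-- conjugation -/
abbrev conjBy {G : Type*} [Group G] (n : G) (J : Subgroup G) : Subgroup G := J.map (MulAut.conj n).toMonoidHom

theorem mem_conjBy {G : Type*} [Group G] {n z : G} {J : Subgroup G} : z ∈ conjBy n J ↔ n⁻¹ * z * n ∈ J := by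
  rw [Subgroup.mem_map_equiv, MulAut.conj_symm_apply]

theorem card_conjBy {G : Type*} [Group G] (n : G) (J : Subgroup G) : Nat.card (conjBy n J) = Nat.card J :=
  Subgroup.card_map_of_injective (MulAut.conj n).injective

theorem card_conj_sub {G : Type*} [Group G] (n : G) {P : Subgroup G} (T : Subgroup P) :
    Nat.card (conjBy n (T.map P.subtype)) = Nat.card T :=
  (card_conjBy n _).trans (Subgroup.card_map_of_injective Subtype.val_injective)

/-- the stabiliser of 550, by generators -/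
noncomputable def Pst : Subgroup R0 := gen [76, 77, 78, 79]

/-- two of them fixing a further point -/
noncomputable def P20 : Subgroup R0 := gen [78, 79]

/-- the orbit representatives at distance more than one from 550 -/
def farReps : List (ℕ × ℕ) := [(2, 4), (4, 5), (5, 3)]

/-- the orbit of a representative -/
noncomputable def farMask (r : ℕ × ℕ) : ℕ :=
  Nat.land (grow ([76, 77, 78, 79].map netEl) (one1 r.1) r.2) (ones 4060)

theorem par_ok : ([76, 77, 78, 79].all (fun k => sendsB (netEl k) 550 550) &&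
    [78, 79].all (fun k => sendsB (netEl k) 4 4) &&
    Nat.ble 1024 (bitCount (grow ([76, 77, 78, 79].map netEl) (one1 4) 5) 4060) &&
    Nat.ble 20 (bitCount (grow ([78, 79].map netEl) (one1 1) 4) 4060) &&
    keepsB ([76, 77, 78, 79].map netEl) N10 &&
    farReps.all (fun r => Nat.blt r.1 4060 && Nat.ble 21 (bitCount (farMask r) 4060)) &&
    Nat.beq (Nat.land (farReps.foldr (fun r S => Nat.lor (farMask r) S) 0) D1)
      (Nat.xor D1 (Nat.lor (one1 550) N10)) &&
    Nat.beq (Nat.land N10 D1) N10 && Nat.beq (n10.foldr (fun q S => Nat.lor (one1 q) S) 0) N10 &&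
    (List.range 10).all (fun i => Nat.blt (n10.getD i 0) 4060 && sendsB (netEl (58 + i)) 550 (n10.getD i 0) &&
      Nat.beq (bitCount (Nat.land N10 (applyNet (netEl (58 + i)).reverse N10)) 4060) 1) &&
    Nat.beq n10.length 10) = true := by
  decide +kernel

theorem Pst_eq : Pst = H ⊓ St q550 := by
  have := finite_R0
  have h := par_ok
  simp only [Bool.and_eq_true, List.all_eq_true (l := [76, 77, 78, 79]), List.all_eq_true (l := [78, 79])] at h
  obtain ⟨⟨⟨⟨⟨⟨⟨⟨⟨⟨h1, h2⟩, h3⟩, h4⟩, -⟩, -⟩, -⟩, -⟩, -⟩, -⟩, -⟩ := h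
  have hle : Pst ≤ H ⊓ St q550 := gen_le fun k hk => by
    refine ⟨el_mem_H ?_, sendsE (x := q550) (y := q550) (h1 k hk)⟩
    simp only [List.mem_cons, List.not_mem_nil, or_false] at hk
    omega
  have hP20 : P20 ≤ Pst := gen_le fun k hk => el_mem_gen (List.mem_cons_of_mem _ (List.mem_cons_of_mem _ hk))
  have e1 := mul_card_le (p := (⟨4, by norm_num⟩ : Pt)) hP20
    (gen_le fun k hk => sendsE (x := ⟨4, by norm_num⟩) (y := ⟨4, by norm_num⟩) (h2 k hk))
    (gen_nets [76, 77, 78, 79]) (n := 1024) (k := 5) h3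
  have e2 := mul_card_le (p := q1) (K := P20) (L := ⊥) bot_le bot_le (gen_nets [78, 79]) (n := 20) (k := 4) h4
  rw [Subgroup.card_bot] at e2
  refine Subgroup.eq_of_le_of_card_ge hle ?_
  rw [card_stab_D1 D1_q550]
  omega

theorem N10_inv {g : R0} (h0 : g ∈ H) (h550 : phi g q550 = q550) (j : Pt) :
    N10.testBit (phi g j) = N10.testBit j := by
  have h := par_ok
  simp only [Bool.and_eq_true] at h
  have hg : g ∈ Pst := Pst_eq ▸ ⟨h0, h550⟩
  exact gen_keeps h.1.1.1.1.1.1.2 hg j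

theorem orbitF_card_eq {K : Subgroup R0} {p q : Pt} (h : q ∈ orbitF K p) : (orbitF K q).card = (orbitF K p).card := by
  obtain ⟨g, hg, rfl⟩ := mem_orbitF.1 h
  refine congrArg Finset.card (Finset.ext fun j => ?_)
  rw [mem_orbitF, mem_orbitF]
  constructor
  · rintro ⟨k, hk, rfl⟩
    exact ⟨k * g, K.mul_mem hk hg, by rw [map_mul, Equiv.Perm.mul_apply]⟩
  · rintro ⟨k, hk, rfl⟩
    exact ⟨k * g⁻¹, K.mul_mem hk (K.inv_mem hg), by
      rw [map_mul, map_inv, Equiv.Perm.mul_apply, Equiv.Perm.inv_def, Equiv.symm_apply_apply]⟩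

theorem far_orbit {t : Pt} (h1 : D1.testBit t = true) (h2 : t ≠ q550) (h3 : N10.testBit t = false) :
    21 ≤ (orbitF Pst t).card := by
  have h := par_ok
  simp only [Bool.and_eq_true, List.all_eq_true (l := farReps), Nat.blt_eq] at h
  obtain ⟨⟨⟨⟨⟨⟨-, hreps⟩, hcov⟩, -⟩, -⟩, -⟩, -⟩ := h
  have hb := congrArg (fun n => n.testBit t) (Nat.eq_of_beq_eq_true hcov)
  simp only [land_eq, xor_eq, lor_eq, Nat.testBit_and, Nat.testBit_xor, Nat.testBit_or, h1, testBit_one1, h3] at hb
  rw [decide_eq_false (fun e => h2 (Fin.ext e))] at hb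
  simp only [Bool.and_true, Bool.or_self, Bool.xor_false] at hb
  obtain ⟨r, hr, hb'⟩ := foldr_lor_bit farMask hb
  obtain ⟨hlt, hcnt⟩ := hreps r hr
  have conn : ∀ j : Pt, (farMask r).testBit j = true → ∃ g ∈ Pst, phi g ⟨r.1, hlt⟩ = j := fun j hj => by
    rw [farMask, land_eq, Nat.testBit_and, Bool.and_eq_true] at hj
    exact grow_one (p := ⟨r.1, hlt⟩) (gen_nets [76, 77, 78, 79]) hj.1
  rw [orbitF_card_eq (p := ⟨r.1, hlt⟩) (mem_orbitF.2 (conn t hb'))]
  exact (Nat.le_of_ble_eq_true hcnt).trans (bitCount_le_orbit conn)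

/-- A subgroup of order 20480 of the point stabiliser is the stabiliser of a point of the smaller suborbit. -/
theorem parabolic {P' : Subgroup R0} (hP : P' ≤ H) (hc : Nat.card P' = 20480) :
    ∃ p : Pt, D1.testBit p = true ∧ P' = H ⊓ St p := by
  have := finite_R0
  have : Fact (Nat.Prime 2) := ⟨Nat.prime_two⟩
  obtain ⟨T, hT⟩ := Sylow.exists_subgroup_card_pow_prime (G := P') 2 (n := 12) (by rw [hc]; norm_num)
  let V := {p : Pt // D1.testBit p = true}
  let _ : MulAction T V :=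
    { smul := fun t p => ⟨phi ((t : P') : R0) p.1, by rw [D1_inv (hP t.1.2)]; exact p.2⟩
      one_smul := fun p => Subtype.ext (by show phi ((1 : P') : R0) p.1 = p.1; simp)
      mul_smul := fun s t p => Subtype.ext (by
        show phi (((s * t : T) : P') : R0) p.1 = phi _ (phi _ p.1)
        simp) }
  have hV : Nat.card V = 1755 := by
    have h := orbit_ok
    simp only [Bool.and_eq_true] at h
    rw [← Nat.eq_of_beq_eq_true h.1.1.1.1.1.1.2, ← card_ptsOf, ← Nat.card_eq_finsetCard]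
    exact Nat.card_congr (Equiv.subtypeEquivRight fun p => by simp [ptsOf])
  have hmod := (IsPGroup.of_card hT).card_modEq_card_fixedPoints V
  rw [hV] at hmod
  have hne : Nonempty (MulAction.fixedPoints T V) := by
    by_contra h
    rw [not_nonempty_iff] at h
    rw [Nat.card_of_isEmpty] at hmod
    exact absurd hmod (by decide)
  obtain ⟨⟨⟨p, hp⟩, hfix⟩⟩ := hne
  obtain ⟨x, hx, hxp⟩ := D1_trans hp
  refine ⟨p, hp, ?_⟩
  let P'' : Subgroup R0 := P'.map (MulAut.conj x⁻¹).toMonoidHom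
  let T'' : Subgroup R0 := (T.map P'.subtype).map (MulAut.conj x⁻¹).toMonoidHom
  have hcP : Nat.card P'' = 20480 := (card_conjBy x⁻¹ P').trans hc
  have hcT : Nat.card T'' = 4096 := ((card_conj_sub x⁻¹ T).trans hT).trans (by norm_num)
  have hPH : P'' ≤ H := by
    rintro _ ⟨t, ht, rfl⟩
    simpa [MulAut.conj_apply] using H.mul_mem (H.mul_mem (H.inv_mem hx) (hP ht)) hx
  have hTP : T'' ≤ P'' := Subgroup.map_mono (Subgroup.map_subtype_le T)
  have hTfix : ∀ t ∈ T'', phi t q550 = q550 := by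
    rintro _ ⟨_, ⟨s, hs, rfl⟩, rfl⟩
    show phi (x⁻¹ * _ * x⁻¹⁻¹) q550 = q550
    simp only [inv_inv, map_mul, map_inv, Equiv.Perm.mul_apply, hxp]
    rw [show phi (P'.subtype s) p = p from congrArg (fun v : V => (v.1 : Pt)) (hfix ⟨s, hs⟩)]
    exact (Equiv.symm_apply_eq _).2 hxp.symm
  set O := orbitF P'' q550 with hO
  have hT5 : O.card ∣ 5 := by
    have h1 := card_eq_orbit P'' q550
    obtain ⟨m, hm⟩ := Subgroup.card_dvd_of_le (le_inf hTP hTfix : T'' ≤ P'' ⊓ St q550)
    rw [hcT] at hm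
    rw [hcP, hm, ← hO] at h1
    refine ⟨m, ?_⟩
    rw [mul_left_comm] at h1
    omega
  suffices hone : O.card = 1 by
    have hall : ∀ g ∈ P'', phi g q550 = q550 := fun g hg =>
      Finset.card_le_one.1 hone.le _ (mem_orbitF.2 ⟨g, hg, rfl⟩) _ (mem_orbitF.2 ⟨1, P''.one_mem, by simp⟩)
    refine Subgroup.eq_of_le_of_card_ge (fun g hg => ⟨hP hg, ?_⟩) (by rw [hc, card_stab_D1 hp])
    have h1 : phi (x⁻¹ * g * x⁻¹⁻¹) q550 = q550 := hall _ (Subgroup.mem_map_of_mem _ hg)
    simp only [inv_inv, map_mul, map_inv, Equiv.Perm.mul_apply, hxp] at h1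
    rw [Equiv.Perm.inv_def, Equiv.symm_apply_eq, hxp] at h1
    exact mem_St.2 h1
  rcases (Nat.dvd_prime (by norm_num : Nat.Prime 5)).1 hT5 with h | h
  · exact h
  exfalso
  have hD : ∀ t ∈ O, D1.testBit t = true := fun t ht => by
    obtain ⟨g, hg, rfl⟩ := mem_orbitF.1 ht
    rw [D1_inv (hPH hg)]; exact D1_q550
  have hself : q550 ∈ O := mem_orbitF.2 ⟨1, P''.one_mem, by simp⟩
  have hN : ∀ t ∈ O, t ≠ q550 → N10.testBit t = true := by
    intro t ht hne
    by_contra h10
    have hbig := far_orbit (hD t ht) hne (by simpa using h10)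
    have h1 := card_eq_orbit T'' t
    have h2 := card_eq_orbit Pst t
    rw [hcT] at h1
    rw [show Nat.card Pst = 20480 by rw [Pst_eq, card_stab_D1 D1_q550]] at h2
    have hsub : orbitF T'' t ⊆ O.erase q550 := by
      intro j hj
      obtain ⟨g, hg, rfl⟩ := mem_orbitF.1 hj
      refine Finset.mem_erase.2 ⟨fun e => hne ((phi g).injective (e.trans (hTfix g hg).symm)), ?_⟩
      obtain ⟨k, hk, e⟩ := mem_orbitF.1 ht
      exact mem_orbitF.2 ⟨g * k, P''.mul_mem (hTP hg) hk, by rw [map_mul, Equiv.Perm.mul_apply, e]⟩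
    have h4 := Finset.card_le_card hsub
    rw [Finset.card_erase_of_mem hself, h] at h4
    have hle : Nat.card (T'' ⊓ St t : Subgroup R0) ≤ Nat.card (Pst ⊓ St t : Subgroup R0) := by
      refine Subgroup.card_le_of_le (inf_le_inf_right _ fun g hg => ?_)
      rw [Pst_eq]
      exact ⟨hPH (hTP hg), hTfix g hg⟩
    have h5 := Nat.mul_le_mul_right (Nat.card (T'' ⊓ St t : Subgroup R0)) h4
    have h6 := Nat.mul_le_mul hbig hle
    omega
  obtain ⟨q, hq, hqne⟩ : ∃ q ∈ O, q ≠ q550 := by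
    have hce : (O.erase q550).card = 4 := by rw [Finset.card_erase_of_mem hself, h]
    obtain ⟨q, hq⟩ := Finset.card_pos.1 (show 0 < (O.erase q550).card by omega)
    exact ⟨q, (Finset.mem_erase.1 hq).2, (Finset.mem_erase.1 hq).1⟩
  have hp' := par_ok
  simp only [Bool.and_eq_true, List.all_eq_true (l := List.range 10), List.mem_range, Nat.blt_eq] at hp'
  obtain ⟨⟨⟨⟨-, -⟩, hfold⟩, hx10⟩, hlen⟩ := hp'
  have hqb := hN q hq hqne
  rw [← Nat.eq_of_beq_eq_true hfold] at hqb
  obtain ⟨q', hq', hqb⟩ := foldr_lor_bit one1 hqb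
  rw [testBit_one1, decide_eq_true_eq] at hqb
  obtain ⟨i, hi, rfl⟩ := List.getElem_of_mem hq'
  obtain ⟨⟨hlt, hsend⟩, hone⟩ := hx10 i (by rw [← Nat.eq_of_beq_eq_true hlen]; exact hi)
  rw [List.getD_eq_getElem _ _ hi] at hsend hlt
  have hxq : phi (el (58 + i)) q550 = q := sendsE (by rw [hqb]; exact hsend)
  obtain ⟨g, hg, hgq⟩ := mem_orbitF.1 hq
  have hsub : (O.erase q550).erase q ⊆ ptsOf (Nat.land N10 (applyNet (netEl (58 + i)).reverse N10)) := by
    intro r hr
    obtain ⟨hrq, hr550, hrO⟩ := Finset.mem_erase.1 hr |>.imp id Finset.mem_erase.1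
    simp only [ptsOf, Finset.mem_filter, Finset.mem_univ, true_and, land_eq, Nat.testBit_and, Bool.and_eq_true,
      (net_el _).rev.bit]
    refine ⟨hN r hrO hr550, ?_⟩
    obtain ⟨k, hk, e⟩ := mem_orbitF.1 hrO
    have h1 : N10.testBit (phi g⁻¹ r) = true := by
      refine hN _ (mem_orbitF.2 ⟨g⁻¹ * k, P''.mul_mem (P''.inv_mem hg) hk, by rw [map_mul, Equiv.Perm.mul_apply, e]⟩)
        fun e2 => hrq ?_
      rw [map_inv, Equiv.Perm.inv_def, Equiv.symm_apply_eq, hgq] at e2
      exact e2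
    have h2 := N10_inv (g := (el (58 + i))⁻¹ * g)
      (H.mul_mem (H.inv_mem (el_mem_H (by omega))) (hPH hg))
      (by rw [map_mul, map_inv, Equiv.Perm.mul_apply, hgq, ← hxq, Equiv.Perm.inv_def, Equiv.symm_apply_apply])
      (phi g⁻¹ r)
    rw [h1, map_mul, Equiv.Perm.mul_apply, map_inv, map_inv, Equiv.Perm.inv_def (phi g),
      Equiv.apply_symm_apply] at h2
    exact h2
  have h7 := Finset.card_le_card hsub
  rw [card_ptsOf, Nat.eq_of_beq_eq_true hone, Finset.card_erase_of_mem (Finset.mem_erase.2 ⟨hqne, hq⟩),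
    Finset.card_erase_of_mem hself, h] at h7
  omega

/-! ### A class of involutions -/

/-- the conjugates of twenty involutions fixing 550 -/
def IsZ (z : R0) : Prop := ∃ x ∈ H, ∃ b < 20, z = x * el (37 + b) * x⁻¹

theorem IsZ.conj {z g : R0} (hg : g ∈ H) : IsZ z → IsZ (g * z * g⁻¹) := by
  rintro ⟨x, hx, b, hb, rfl⟩
  exact ⟨g * x, H.mul_mem hg hx, b, hb, by simp only [mul_inv_rev, mul_assoc]⟩

theorem class_ok : (sameNet (netPow (netEl 1) 2 ++ netEl 57) (netEl 57 ++ netEl 37) &&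
    [76, 77, 78, 79].all (fun g => (List.range 20).all fun b => (List.range 20).any fun b' =>
      sameNet (netEl g ++ netEl (37 + b)) (netEl (37 + b') ++ netEl g))) = true := by decide +kernel

/-- the square of the element of order four -/
noncomputable def z0 : R0 := el 1 ^ 2

theorem isZ_z0 : IsZ z0 := by
  have h := class_ok
  rw [Bool.and_eq_true] at h
  refine ⟨el 57, el_mem_H (by decide), 0, by norm_num, eq_mul_inv_of_mul_eq ?_⟩
  exact eq_of_nets (by rw [z0, map_mul, map_pow]; exact ((net_el 1).pow 2).mul (net_el 57))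
    (by rw [map_mul]; exact (net_el 57).mul (net_el 37)) h.1

theorem stab_perm {s : R0} (h0 : s ∈ H) (h1 : phi s q550 = q550) :
    ∀ b < 20, ∃ b' < 20, s * el (37 + b) * s⁻¹ = el (37 + b') := by
  have hs : s ∈ Pst := Pst_eq ▸ ⟨h0, h1⟩
  refine closure_pred (P := fun s => ∀ b < 20, ∃ b' < 20, s * el (37 + b) * s⁻¹ = el (37 + b'))
    (fun a ha => ⟨a, ha, by simp⟩) (fun x z hx hz a ha => ?_) ?_ hs
  · obtain ⟨b, hb, e⟩ := hz a ha
    obtain ⟨c, hc, e'⟩ := hx b hb
    exact ⟨c, hc, by rw [← e', ← e]; simp only [mul_inv_rev, mul_assoc]⟩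
  · rintro _ ⟨g, hg, rfl⟩ b hb
    have h := class_ok
    simp only [List.all_eq_true (l := List.range 20), List.all_eq_true (l := [76, 77, 78, 79]), List.mem_range,
      List.any_eq_true, Bool.and_eq_true] at h
    obtain ⟨b', hb', hs⟩ := h.2 g hg b hb
    refine ⟨b', hb', mul_inv_eq_iff_eq_mul.2 ?_⟩
    exact eq_of_nets (by rw [map_mul]; exact (net_el g).mul (net_el _))
      (by rw [map_mul]; exact (net_el _).mul (net_el g)) hs

/-- the normaliser of the element of order 13 in the point stabiliser, by generators -/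
noncomputable def K156 : Subgroup R0 := gen [0, 1, 2]

theorem K156_le : K156 ≤ H ⊓ NY := gen_le fun k hk => by
  simp only [List.mem_cons, List.not_mem_nil, or_false] at hk
  rcases hk with rfl | rfl | rfl
  exacts [⟨el_mem_H (by decide), el0_NY⟩, ⟨el_mem_H (by decide), el1_NY⟩, ⟨el_mem_H (by decide), el2_NY⟩]

/-- a representative -/
noncomputable def cand (c : ℕ) : R0 := el (23 + c / 20) * (el (37 + c % 20) * (el (23 + c / 20))⁻¹)

/-- its network -/
def candNet (c : ℕ) : List Stage := netEl (23 + c / 20) ++ (netEl (37 + c % 20) ++ (netEl (23 + c / 20)).reverse)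

theorem net_cand (c : ℕ) : NetOf (candNet c) (phi (cand c)) := by
  rw [cand, map_mul, map_mul, map_inv]
  exact (net_el _).mul ((net_el _).mul (net_el _).rev)

theorem cand_mem_H {c : ℕ} : cand c ∈ H :=
  H.mul_mem (el_mem_H (by omega)) (H.mul_mem (el_mem_H (by omega)) (H.inv_mem (el_mem_H (by omega))))

theorem reps_ok : ((List.range 14).all (fun m => Nat.blt (nReps.getD m (0, 0)).1 4060 &&
      sendsB (netEl (23 + m)) 550 (nReps.getD m (0, 0)).1) &&
    Nat.beq (Nat.land ((List.range 14).foldr (fun m S =>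
      Nat.lor (grow ([0, 1, 2].map netEl) (one1 (nReps.getD m (0, 0)).1) (nReps.getD m (0, 0)).2) S) 0) D1) D1) = true := by
  decide +kernel

theorem z_cases {z : R0} (hz : IsZ z) : ∃ n ∈ K156, ∃ c < 280, z = n * cand c * n⁻¹ := by
  obtain ⟨x, hx, b0, hb0, rfl⟩ := hz
  have h := reps_ok
  simp only [Bool.and_eq_true, List.all_eq_true, List.mem_range, Nat.blt_eq] at h
  obtain ⟨hs, hcov⟩ := h
  have hj : D1.testBit (phi x q550) = true := by rw [D1_inv hx]; exact D1_q550
  obtain ⟨m, hm, hb⟩ := foldr_lor_bit (fun m : ℕ =>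
    grow ([0, 1, 2].map netEl) (one1 (nReps.getD m (0, 0)).1) (nReps.getD m (0, 0)).2) (sub_of_land hcov hj)
  rw [List.mem_range] at hm
  obtain ⟨g, hg, hgp⟩ := grow_one (p := ⟨_, (hs m hm).1⟩) (gen_nets [0, 1, 2]) hb
  have ht : phi (el (23 + m)) q550 = ⟨_, (hs m hm).1⟩ :=
    sendsE (x := q550) (y := ⟨_, (hs m hm).1⟩) (hs m hm).2
  obtain ⟨b, hb20, e⟩ := stab_perm (s := (el (23 + m))⁻¹ * g⁻¹ * x)
    (H.mul_mem (H.mul_mem (H.inv_mem (el_mem_H (by omega))) (H.inv_mem (K156_le hg).1)) hx)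
    (by
      rw [map_mul, map_mul, map_inv, map_inv, Equiv.Perm.mul_apply, Equiv.Perm.mul_apply, ← hgp, ← ht,
        Equiv.Perm.inv_def, Equiv.Perm.inv_def, Equiv.symm_apply_apply, Equiv.symm_apply_apply]) b0 hb0
  refine ⟨g, hg, 20 * m + b, by omega, ?_⟩
  rw [cand, show (20 * m + b) / 20 = m by omega, show (20 * m + b) % 20 = b by omega, ← e]
  group

/-- what a representative does -/
def kd (c : ℕ) : ℕ × ℕ × ℕ × ℕ × ℕ × ℕ × ℕ × ℕ := kinds.getD c (0, 0, 0, 0, 0, 0, 0, 0)

/-- the three fixed neighbours of the element of order 13 -/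
def qv (i : ℕ) : ℕ := [1, 2215, 3034].getD i 1

theorem qv_lt (i : ℕ) : qv i < 4060 := by
  rcases i with _ | _ | _ | i <;> simp [qv]

/-- the same, as points -/
def qs (i : ℕ) : Pt := ⟨qv i, qv_lt i⟩

/-- the kind is right -/
noncomputable def kindOK (c : ℕ) : Bool :=
  cond (Nat.beq (kd c).1 0) (Nat.ble 1951 (bitCount (grow [netEl 0, netEl 1, candNet c] (one1 1) (kd c).2.2.2.1) 4060))
  (cond (Nat.beq (kd c).1 1)
    (sendsB (candNet c) (qv (kd c).2.1) (qv (kd c).2.1) && sendsB (netEl 0) (qv (kd c).2.1) (qv (kd c).2.1) &&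
      sendsB (netEl 1) (qv (kd c).2.1) (qv (kd c).2.1) &&
      sendsB (netEl 0) (qv (kd c).2.2.1) (qv (kd c).2.2.1) && sendsB (netEl 1) (qv (kd c).2.2.1) (qv (kd c).2.2.1) &&
      D0.testBit (qv (kd c).2.1) &&
      Nat.ble 300 (bitCount (grow [netEl 0, netEl 1, candNet c] (one1 (qv (kd c).2.2.1)) (kd c).2.2.2.1) 4060))
    (sameNet (candNet c ++ netEl 0) (netPow (netEl 0) (kd c).2.2.2.1 ++ candNet c)))

theorem kinds_ok0 : (List.range 70).all (fun c => kindOK c) = true := by decide +kernel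
theorem kinds_ok1 : (List.range 70).all (fun c => kindOK (70 + c)) = true := by decide +kernel
theorem kinds_ok2 : (List.range 70).all (fun c => kindOK (140 + c)) = true := by decide +kernel
theorem kinds_ok3 : (List.range 70).all (fun c => kindOK (210 + c)) = true := by decide +kernel

theorem kinds_ok {c : ℕ} (hc : c < 280) : kindOK c = true := by
  have get : ∀ {o : ℕ}, (List.range 70).all (fun j => kindOK (o + j)) = true → o ≤ c → c < o + 70 → kindOK c = true := by
    intro o h h1 h2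
    have := List.all_eq_true.1 h (c - o) (List.mem_range.2 (by omega))
    rwa [Nat.add_sub_cancel' h1] at this
  by_cases h : c < 70
  · exact List.all_eq_true.1 kinds_ok0 c (List.mem_range.2 h)
  by_cases h : c < 140
  · exact get kinds_ok1 (by omega) (by omega)
  by_cases h : c < 210
  · exact get kinds_ok2 (by omega) (by omega)
  exact get kinds_ok3 (by omega) (by omega)

theorem h_mem_of_y {J : Subgroup R0} (hJ : J ≤ H) (hc : Nat.card J = 15600) (hy : el 0 ∈ J) :
    el 1 ∈ J ∧ J ⊓ NY = N52 := by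
  have := finite_R0
  obtain ⟨n, hn, hmul⟩ := sylow_count hc hy
  set N := J ⊓ NY with hNdef
  let f : N → Fin 3 × Fin 4 × Fin 13 := fun x =>
    (⟨(NY_form (hJ x.2.1) x.2.2).choose, (NY_form (hJ x.2.1) x.2.2).choose_spec.choose_spec.choose_spec.1⟩,
      ⟨(NY_form (hJ x.2.1) x.2.2).choose_spec.choose,
        (NY_form (hJ x.2.1) x.2.2).choose_spec.choose_spec.choose_spec.2.1⟩,
      ⟨(NY_form (hJ x.2.1) x.2.2).choose_spec.choose_spec.choose,
        (NY_form (hJ x.2.1) x.2.2).choose_spec.choose_spec.choose_spec.2.2.1⟩)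
  have hf : Function.Injective f := by
    intro a b e
    simp only [f, Prod.mk.injEq, Fin.mk.injEq] at e
    refine Subtype.ext ?_
    have ha := (NY_form (hJ a.2.1) a.2.2).choose_spec.choose_spec.choose_spec.2.2.2
    have hb := (NY_form (hJ b.2.1) b.2.2).choose_spec.choose_spec.choose_spec.2.2.2
    exact ha.trans ((congr (congrArg _ (congrArg (el 2 ^ ·) e.1))
      (congr (congrArg _ (congrArg (el 1 ^ ·) e.2.1)) (congrArg (el 0 ^ ·) e.2.2))).trans hb.symm)
  have hle := Nat.card_le_card_of_injective f hf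
  simp only [Nat.card_prod, Nat.card_fin] at hle
  have h52 : Nat.card N = 52 := by rcases hn with rfl | rfl | rfl <;> omega
  have hsub : N ≤ N52 := by
    intro x hx
    obtain ⟨j, l, i, hj, -, -, e⟩ := NY_form (hJ hx.1) hx.2
    have hx52 : x ^ 52 = 1 := by
      have := congrArg Subtype.val (pow_card_eq_one' (G := N) (x := ⟨x, hx⟩))
      rw [h52] at this
      simpa using this
    have hconj : x * el 0 = el 0 ^ (9 ^ j * 5 ^ l) * x := by
      have hw : ∀ a : ℕ, el 2 ^ a * el 0 = el 0 ^ (9 ^ a) * el 2 ^ a := fun a => by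
        induction a with
        | zero => simp
        | succ a ih => rw [pow_succ, mul_assoc, w_y, ← mul_assoc, conj_pow_y ih, mul_assoc, pow_succ]
      have hh : ∀ a : ℕ, el 1 ^ a * el 0 = el 0 ^ (5 ^ a) * el 1 ^ a := fun a => by
        induction a with
        | zero => simp
        | succ a ih => rw [pow_succ, mul_assoc, h_y, ← mul_assoc, conj_pow_y ih, mul_assoc, pow_succ]
      rw [e]
      calc el 2 ^ j * (el 1 ^ l * el 0 ^ i) * el 0 = el 2 ^ j * (el 1 ^ l * el 0) * el 0 ^ i := by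
            simp only [mul_assoc, ← pow_succ, ← pow_succ']
        _ = el 2 ^ j * el 0 ^ (5 ^ l) * el 1 ^ l * el 0 ^ i := by rw [hh]; simp only [mul_assoc]
        _ = _ := by rw [conj_pow_y (hw j)]; simp only [mul_assoc]
    have hp : ∀ a : ℕ, x ^ a * el 0 = el 0 ^ ((9 ^ j * 5 ^ l) ^ a) * x ^ a := fun a => by
      induction a with
      | zero => simp
      | succ a ih => rw [pow_succ, mul_assoc, hconj, ← mul_assoc, conj_pow_y ih, mul_assoc, pow_succ]
    have h1 := hp 52
    rw [hx52, one_mul, mul_one] at h1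
    have hmod : (9 ^ j * 5 ^ l) ^ 52 % 13 = 1 := by
      have e2 : el 0 ^ 1 = el 0 ^ ((9 ^ j * 5 ^ l) ^ 52) := by rw [pow_one, ← h1]
      rw [pow_eq_pow_iff_modEq, orderOf_y] at e2
      exact e2.symm
    rw [Nat.pow_mod, Nat.mul_mod, Nat.pow_mod 5 l, ← Nat.mod_add_div l 4, pow_add, pow_mul] at hmod
    have hj0 : j = 0 := by
      have hl := Nat.mod_lt l (show 4 > 0 by norm_num)
      generalize l % 4 = a at hmod hl
      interval_cases j
      · rfl
      all_goals (interval_cases a <;> norm_num [Nat.mul_mod, Nat.pow_mod] at hmod)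
    rw [e, hj0, pow_zero, one_mul]
    exact pow_mem_N52 l i
  have heq : N = N52 := Subgroup.eq_of_le_of_card_ge hsub (by rw [h52, N52_eq.2])
  exact ⟨(heq.ge (el_mem_gen (by decide))).1, heq⟩

theorem cand_good {J : Subgroup R0} (hJ : J ≤ H) (hc : Nat.card J = 15600) (hy : el 0 ∈ J) {c : ℕ} (hc280 : c < 280)
    (he : cand c ∈ J) (hn : cand c ∉ NY) :
    (kd c).1 = 1 ∧ D0.testBit (qs (kd c).2.1) = true ∧ J = H ⊓ St (qs (kd c).2.1) := by
  have := finite_R0
  have hk := kinds_ok hc280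
  have hh := (h_mem_of_y hJ hc hy).1
  have hls : ∀ l ∈ [netEl 0, netEl 1, candNet c], ∃ g ∈ J, NetOf l (phi g) := by
    intro l hl
    simp only [List.mem_cons, List.not_mem_nil, or_false] at hl
    rcases hl with rfl | rfl | rfl
    exacts [⟨_, hy, net_el 0⟩, ⟨_, hh, net_el 1⟩, ⟨_, he, net_cand c⟩]
  cases h0 : Nat.beq (kd c).1 0
  · cases h1 : Nat.beq (kd c).1 1
    · rw [kindOK, h0, cond_false, h1, cond_false] at hk
      refine absurd (mem_NY.2 ⟨(kd c).2.2.2.1, eq_of_nets (by rw [map_mul]; exact (net_cand c).mul (net_el 0)) ?_ hk⟩) hn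
      rw [map_mul, map_pow]
      exact ((net_el 0).pow _).mul (net_cand c)
    · rw [kindOK, h0, cond_false, h1, cond_true] at hk
      simp only [Bool.and_eq_true] at hk
      obtain ⟨⟨⟨⟨⟨⟨hcq, h0q⟩, h1q⟩, h0o⟩, h1o⟩, hD⟩, hcnt⟩ := hk
      refine ⟨Nat.eq_of_beq_eq_true h1, hD, ?_⟩
      let K := J ⊓ St (qs (kd c).2.1)
      have hls' : ∀ l ∈ [netEl 0, netEl 1, candNet c], ∃ g ∈ K, NetOf l (phi g) := by
        intro l hl
        simp only [List.mem_cons, List.not_mem_nil, or_false] at hl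
        rcases hl with rfl | rfl | rfl
        exacts [⟨_, ⟨hy, (net_el 0).sends h0q⟩, net_el 0⟩, ⟨_, ⟨hh, (net_el 1).sends h1q⟩, net_el 1⟩,
          ⟨_, ⟨he, (net_cand c).sends hcq⟩, net_cand c⟩]
      have hK : N52 ≤ K ⊓ St (qs (kd c).2.2.1) := gen_le fun k hk => by
        simp only [List.mem_cons, List.not_mem_nil, or_false] at hk
        rcases hk with rfl | rfl
        exacts [⟨⟨hy, (net_el 0).sends h0q⟩, (net_el 0).sends h0o⟩, ⟨⟨hh, (net_el 1).sends h1q⟩, (net_el 1).sends h1o⟩]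
      have h := mul_card_le (p := qs (kd c).2.2.1) (K := K) (hK.trans inf_le_left) (hK.trans inf_le_right) hls'
        (n := 300) hcnt
      rw [N52_eq.2] at h
      have hKJ : K = J := Subgroup.eq_of_le_of_card_ge inf_le_left (by omega)
      refine Subgroup.eq_of_le_of_card_ge (fun g hg => ⟨hJ hg, (hKJ.ge hg).2⟩) ?_
      rw [hc, card_stab_D0 hD]
  · exfalso
    rw [kindOK, h0, cond_true] at hk
    have h1 := card_eq_orbit J q1
    have hlo : 1951 ≤ (orbitF J q1).card :=
      (Nat.le_of_ble_eq_true hk).trans (bitCount_le_orbit fun j hj => grow_one hls hj)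
    have hhi : (orbitF J q1).card ≤ 2304 := by
      have h := orbit_ok
      simp only [Bool.and_eq_true] at h
      rw [← Nat.eq_of_beq_eq_true h.1.1.1.1.1.1.1.2, ← card_ptsOf]
      refine Finset.card_le_card fun j hj => ?_
      obtain ⟨g, hg, rfl⟩ := mem_orbitF.1 hj
      simp only [ptsOf, Finset.mem_filter, Finset.mem_univ, true_and]
      rw [D0_inv (hJ hg)]; exact D0_q1
    rw [hc] at h1
    generalize Nat.card (J ⊓ St q1 : Subgroup R0) = s at h1
    generalize (orbitF J q1).card = o at h1 hlo hhi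
    have hs1 : s < 8 := by
      by_contra h
      have := Nat.mul_le_mul hlo (not_lt.1 h)
      omega
    interval_cases s <;> omega

theorem good_of_y {J : Subgroup R0} (hJ : J ≤ H) (hc : Nat.card J = 15600) (hy : el 0 ∈ J) :
    ∃ q : Pt, D0.testBit q = true ∧ J = H ⊓ St q := by
  have := finite_R0
  obtain ⟨hh, hN⟩ := h_mem_of_y hJ hc hy
  have hz : z0 ∈ J := J.pow_mem hh 2
  obtain ⟨j, hj, hjn⟩ : ∃ j ∈ J, j * z0 * j⁻¹ ∉ NY := by
    by_contra hall
    push Not at hall
    have hform : ∀ j ∈ J, ∃ i, j * z0 * j⁻¹ = z0 * el 0 ^ i := by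
      intro j hj
      have hm : j * z0 * j⁻¹ ∈ N52 := hN ▸ ⟨J.mul_mem (J.mul_mem hj hz) (J.inv_mem hj), hall j hj⟩
      obtain ⟨l, i, hl, -, e⟩ := N52_form hm
      have hsq : (el 1 ^ l * el 0 ^ i) * (el 1 ^ l * el 0 ^ i) = 1 := by
        rw [← e, show j * z0 * j⁻¹ * (j * z0 * j⁻¹) = j * (z0 * z0) * j⁻¹ by group, z0, ← pow_add, h_four]
        group
      rw [mul_assoc, ← mul_assoc (el 0 ^ i), y_h_pow, mul_assoc, ← pow_add, ← mul_assoc, ← pow_add] at hsq
      have hl' : l = 0 ∨ l = 2 := by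
        by_contra hcon
        have h2 : el 1 ^ (l + l) = el 1 ^ 2 := by
          rw [← Nat.mod_add_div (l + l) 4, pow_add, pow_mul, h_four, one_pow, mul_one]
          congr 1
          omega
        rw [h2] at hsq
        have h3 : el 1 ^ 2 = (el 0 ^ (8 ^ l * i + i))⁻¹ := eq_inv_of_mul_eq_one_left hsq
        have h4 := orderOf_h
        have h5 : orderOf (el 1 ^ 2) ∣ 13 := by
          rw [h3, orderOf_inv]; exact (orderOf_pow_dvd _).trans (by rw [orderOf_y])
        rw [orderOf_pow, h4] at h5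
        norm_num at h5
      rcases hl' with rfl | rfl
      · exfalso
        rw [pow_zero, one_mul] at e
        have h1 : orderOf (j * z0 * j⁻¹) ∣ 13 := by rw [e]; exact (orderOf_pow_dvd _).trans (by rw [orderOf_y])
        rw [show j * z0 * j⁻¹ = MulAut.conj j z0 from rfl, MulEquiv.orderOf_eq, z0, orderOf_pow, orderOf_h] at h1
        norm_num at h1
      · exact ⟨i, e⟩
    have hJN : J ≤ NY := by
      intro j hj
      obtain ⟨a, ha⟩ := hform j hj
      obtain ⟨b, hb⟩ := hform (j * el 0) (J.mul_mem hj hy)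
      refine mem_NY.2 ?_
      have e : j * (z0 * (el 0 * z0 * (el 0)⁻¹)) * j⁻¹ = z0 * el 0 ^ a * (z0 * el 0 ^ b) := by
        rw [← ha, ← hb]; group
      have e1 : z0 * (el 0 * z0 * (el 0)⁻¹) = el 0 ^ 11 := by
        have h2 : z0 * el 0 = el 0 ^ 12 * z0 := by
          rw [z0, pow_two, mul_assoc, h_y, ← mul_assoc, conj_pow_y h_y, ← pow_y_mod, mul_assoc]
        rw [← mul_assoc, ← mul_assoc, h2, mul_assoc (el 0 ^ 12), z0, ← pow_add, h_four, mul_one,
          mul_inv_eq_iff_eq_mul, ← pow_succ]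
      obtain ⟨s, hs⟩ : ∃ s, z0 * el 0 ^ a * (z0 * el 0 ^ b) = el 0 ^ s :=
        ⟨8 ^ 2 * a + b, by
          rw [mul_assoc, ← mul_assoc (el 0 ^ a), z0, y_h_pow, mul_assoc, ← pow_add, ← mul_assoc, ← pow_add, h_four,
            one_mul]⟩
      rw [e1, hs, mul_inv_eq_iff_eq_mul] at e
      refine ⟨s * 6, ?_⟩
      have e6 := conj_pow_y (g := j) (r := s * 6) (i := 1)
      have hp : ∀ n : ℕ, j * (el 0 ^ 11) ^ n = (el 0 ^ s) ^ n * j := fun n => by
        induction n with
        | zero => simp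
        | succ n ih => rw [pow_succ, ← mul_assoc, ih, mul_assoc, e, ← mul_assoc, ← pow_succ]
      have := hp 6
      rwa [← pow_mul, ← pow_mul, ← pow_y_mod, pow_one] at this
    have hJe : J ⊓ NY = J := inf_eq_left.2 hJN
    rw [hN] at hJe
    rw [← hJe, N52_eq.2] at hc
    omega
  obtain ⟨n, hn, c, hc280, e⟩ := z_cases (isZ_z0.conj (hJ hj))
  obtain ⟨hnH, hnN⟩ := K156_le hn
  set J' := conjBy n⁻¹ J
  have hJ' : J' ≤ H := fun z hz' => by
    have h1 := hJ (mem_conjBy.1 hz')
    rw [inv_inv] at h1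
    have := H.mul_mem (H.mul_mem (H.inv_mem hnH) h1) hnH
    simpa [mul_assoc] using this
  have hy' : el 0 ∈ J' := by
    obtain ⟨r, hr⟩ := mem_NY.1 hnN
    rw [mem_conjBy, inv_inv, hr, mul_inv_cancel_right]
    exact J.pow_mem hy r
  have hc' : Nat.card J' = 15600 := (card_conjBy n⁻¹ J).trans hc
  obtain ⟨-, hD, heq⟩ := cand_good hJ' hc' hy' hc280
    (by rw [mem_conjBy, inv_inv, ← e]; exact J.mul_mem (J.mul_mem hj hz) (J.inv_mem hj))
    (fun hcn => hjn (by rw [e]; exact NY.mul_mem (NY.mul_mem hnN hcn) (NY.inv_mem hnN)))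
  have hD' : D0.testBit (phi n (qs (kd c).2.1)) = true := by rw [D0_inv hnH]; exact hD
  refine ⟨_, hD', Subgroup.eq_of_le_of_card_ge (fun x hx => ⟨hJ hx, ?_⟩) (by rw [hc, card_stab_D0 hD'])⟩
  have h1 : n⁻¹ * x * n ∈ J' := by rw [mem_conjBy]; simpa [mul_assoc] using hx
  have h2 := (heq.le h1).2
  replace h2 := mem_St.1 h2
  rw [map_mul, map_mul, map_inv, Equiv.Perm.mul_apply, Equiv.Perm.mul_apply, Equiv.Perm.inv_def,
    Equiv.symm_apply_eq] at h2
  exact h2

/-- A subgroup of order 15600 of the point stabiliser is the stabiliser of a point of the larger suborbit. -/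
theorem good_of_card {J : Subgroup R0} (hJ : J ≤ H) (hc : Nat.card J = 15600) :
    ∃ q : Pt, D0.testBit q = true ∧ J = H ⊓ St q := by
  have := finite_R0
  have : Fact (Nat.Prime 13) := ⟨by norm_num⟩
  obtain ⟨z, hz⟩ := exists_prime_orderOf_dvd_card' (G := J) 13 (by rw [hc]; norm_num)
  obtain ⟨x, hx, i, hi⟩ := conj_thirteen (L := H) (by rw [card_H]; norm_num) (el_mem_H (by decide)) (hJ z.2)
    orderOf_y ((Subgroup.orderOf_coe z).trans hz)
  set J' := conjBy x⁻¹ J
  have hJ' : J' ≤ H := fun t ht => by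
    have h1 := hJ (mem_conjBy.1 ht)
    rw [inv_inv] at h1
    simpa [mul_assoc] using H.mul_mem (H.mul_mem (H.inv_mem hx) h1) hx
  have hc' : Nat.card J' = 15600 := (card_conjBy x⁻¹ J).trans hc
  obtain ⟨q, hq, heq⟩ := good_of_y hJ' hc' (by rw [mem_conjBy, inv_inv, hi]; exact J.pow_mem z.2 i)
  have hq' : D0.testBit (phi x q) = true := by rw [D0_inv hx]; exact hq
  refine ⟨_, hq', Subgroup.eq_of_le_of_card_ge (fun t ht => ⟨hJ ht, ?_⟩) (by rw [hc, card_stab_D0 hq'])⟩
  have h1 : x⁻¹ * t * x ∈ J' := by rw [mem_conjBy]; simpa [mul_assoc] using ht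
  have h2 := (heq.le h1).2
  replace h2 := mem_St.1 h2
  rw [map_mul, map_mul, map_inv, Equiv.Perm.mul_apply, Equiv.Perm.mul_apply, Equiv.Perm.inv_def,
    Equiv.symm_apply_eq] at h2
  exact h2

end CfsgLib.RuRankThree
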