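import Cfsg.Agent.Lib.RuRankThree.Census

/-!
Computed facts about the two-point stabiliser and the element exchanging the two points.
-/
set_option autoImplicit false
set_option maxRecDepth 8000
set_option Elab.async false

namespace CfsgLib.RuRankThree

open CfsgLib.Presented CfsgLib.Presented.Vec

attribute [local irreducible] bitCount grow applyNet

/-- the point 19 -/
abbrev q19 : Pt := ⟨19, by norm_num⟩
/-- the point 3 -/
abbrev q3 : Pt := ⟨3, by norm_num⟩
/-- the point 7 -/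
abbrev q7 : Pt := ⟨7, by norm_num⟩

/-- the index of a triple -/
def idx3 (k l i : ℕ) : ℕ := k * 52 + l * 13 + i

/-- the transported letters -/
def relNet (k l i : ℕ) (x : ℕ) : List Stage :=
  [netsY.getD (8 ^ l % 13) [], netEl 1 ++ netsY.getD (6 * i % 13) [], netEl (4 + k)].getD x []

/-- a relation fails after transporting -/
noncomputable def witOK (t : ℕ) : Bool :=
  cond (Nat.beq (relWit.getD t (0, 0)).1 99) (Nat.beq t (idx3 0 0 0) || Nat.beq t (idx3 0 2 5))
    (Nat.blt (relWit.getD t (0, 0)).1 relsJ.length && Nat.blt (relWit.getD t (0, 0)).2 4060 &&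
      movesB (netPow ((relsJ.getD (relWit.getD t (0, 0)).1 ([], 0)).1.flatMap (relNet (t / 52) (t % 52 / 13) (t % 13)))
        (relsJ.getD (relWit.getD t (0, 0)).1 ([], 0)).2) (relWit.getD t (0, 0)).2)

theorem wit_ok0 : (List.range 117).all (fun t => witOK (0 + t)) = true := by decide +kernel

theorem wit_ok1 : (List.range 117).all (fun t => witOK (117 + t)) = true := by decide +kernel

theorem wit_ok2 : (List.range 117).all (fun t => witOK (234 + t)) = true := by decide +kernel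

theorem wit_ok3 : (List.range 117).all (fun t => witOK (351 + t)) = true := by decide +kernel

theorem wit_ok {t : ℕ} (ht : t < 468) : witOK t = true := by
  have get : ∀ {o : ℕ}, (List.range 117).all (fun j => witOK (o + j)) = true → o ≤ t → t < o + 117 → witOK t = true := by
    intro o h h1 h2
    have := List.all_eq_true.1 h (t - o) (List.mem_range.2 (by omega))
    rwa [Nat.add_sub_cancel' h1] at this
  by_cases h : t < 117
  · exact get wit_ok0 (by omega) (by omega)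
  by_cases h : t < 234
  · exact get wit_ok1 (by omega) (by omega)
  by_cases h : t < 351
  · exact get wit_ok2 (by omega) (by omega)
  exact get wit_ok3 (by omega) (by omega)

theorem rels_ok : relsJ.all (fun r => sameNet (netPow (r.1.flatMap fun x => [netEl 0, netEl 1, netEl 4].getD x []) r.2) []) = true := by
  decide +kernel

theorem netsY_ok : (List.range 13).all (fun i => netOKN (netsY.getD i []) && sameNet (netPow (netEl 0) i) (netsY.getD i [])) = true := by
  decide +kernel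

theorem net_Y {i : ℕ} (hi : i < 13) : NetOf (netsY.getD i []) (phi (el 0 ^ i)) := by
  rw [map_pow]
  exact ((net_el 0).pow i).of_same (List.all_eq_true.1 netsY_ok i (List.mem_range.2 hi))

/-- the representatives of the third kind are transported onto the listed ones -/
noncomputable def tagOK (c : ℕ) : Bool :=
  cond (Nat.beq (kd c).1 1)
    (Nat.blt (kd c).2.2.2.2.1 3 && Nat.blt (kd c).2.2.2.2.2.1 9 && Nat.blt (kd c).2.2.2.2.2.2.1 4 &&
      Nat.blt (kd c).2.2.2.2.2.2.2 13 &&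
      sendsB (netPow (netEl 2) (kd c).2.2.2.2.1) (qv (kd c).2.1) 1 &&
      sameNet (netPow (netEl 2) (kd c).2.2.2.2.1 ++ (candNet c ++ (netPow (netEl 2) (kd c).2.2.2.2.1).reverse))
        (netPow (netEl 1) (kd c).2.2.2.2.2.2.1 ++ netPow (netEl 0) (kd c).2.2.2.2.2.2.2 ++
          (netEl (4 + (kd c).2.2.2.2.2.1) ++
            (netPow (netEl 1) (kd c).2.2.2.2.2.2.1 ++ netPow (netEl 0) (kd c).2.2.2.2.2.2.2).reverse)))
    true

theorem tag_ok : (List.range 280).all (fun c => tagOK c) = true := by decide +kernel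

/-- the word conjugating the central involution to the third generator -/
def eWord : List ℕ := [0, 0, 1, 1, 4, 0]

theorem misc_ok : (sameNet (netPow (netEl 3) 2) [] &&
    sameNet (netEl 3 ++ netEl 0) (netEl 0 ++ netEl 3) &&
    sameNet (netEl 3 ++ netEl 1) (netEl 1 ++ netEl 3) &&
    sameNet (netEl 3 ++ netEl 4 ++ netEl 3)
      (netPow (netEl 1) 2 ++ netPow (netEl 0) 5 ++ (netEl 4 ++ (netPow (netEl 1) 2 ++ netPow (netEl 0) 5).reverse)) &&
    sameNet (netEl 4 ++ flatN eWord) (flatN eWord ++ netPow (netEl 1) 2) &&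
    sameNet (netEl 3 ++ netEl 2 ++ netEl 3) (netPow (netEl 2) 2 ++ netEl 3 ++ netPow (netEl 2) 2) &&
    sendsB (netEl 3) 2215 3034 && sendsB (netEl 3) 3034 2215 &&
    movesB (netEl 4) 2215 && movesB (netEl 4) 3034 &&
    sendsB (netEl 18) 1 19 && sendsB (netEl 19) 1 3 && sendsB (netEl 20) 1 7 &&
    sendsB (netEl 13) 19 19 && sendsB (netEl 14) 19 19 &&
    Nat.beq (Nat.land (Nat.land (fixMask (netEl 13)) (fixMask (netEl 14))) D0) (Nat.lor (one1 1) (one1 19)) &&
    Nat.beq (Nat.land (Nat.land (fixMask (netEl 13)) (fixMask (netEl 14))) D1) 0 &&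
    sendsB (netEl 15) 3 3 && sendsB (netEl 16) 3 3 &&
    Nat.beq (Nat.land (Nat.land (fixMask (netEl 15)) (fixMask (netEl 16))) D0) (Nat.lor (one1 1) (one1 3)) &&
    Nat.beq (Nat.land (Nat.land (fixMask (netEl 15)) (fixMask (netEl 16))) D1) 0 &&
    (grow ([0, 1, 4].map netEl) (one1 3) 5).testBit 3664 &&
    (grow ([0, 1, 4].map netEl) (one1 2215) 5).testBit 3521 &&
    sendsB (netEl 2) 19 3664 && sendsB (netEl 2) 3664 3521 &&
    [5, 6, 7, 8, 9, 10, 11, 12, 13, 14, 15, 16, 17].all (fun k => sendsB (netEl k) 1 1)) = true := by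
  decide +kernel

theorem u_sq : el 3 * el 3 = 1 := by
  have h := misc_ok
  simp only [Bool.and_eq_true] at h
  rw [← pow_two]
  exact pow_eq_one_of_same h.1.1.1.1.1.1.1.1.1.1.1.1.1.1.1.1.1.1.1.1.1.1.1.1.1

theorem u_y : el 3 * el 0 = el 0 * el 3 := by
  have h := misc_ok
  simp only [Bool.and_eq_true] at h
  exact eq_of_nets (by rw [map_mul]; exact (net_el 3).mul (net_el 0))
    (by rw [map_mul]; exact (net_el 0).mul (net_el 3)) h.1.1.1.1.1.1.1.1.1.1.1.1.1.1.1.1.1.1.1.1.1.1.1.1.2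

theorem u_h : el 3 * el 1 = el 1 * el 3 := by
  have h := misc_ok
  simp only [Bool.and_eq_true] at h
  exact eq_of_nets (by rw [map_mul]; exact (net_el 3).mul (net_el 1))
    (by rw [map_mul]; exact (net_el 1).mul (net_el 3)) h.1.1.1.1.1.1.1.1.1.1.1.1.1.1.1.1.1.1.1.1.1.1.1.2

theorem ueu : el 3 * el 4 * el 3 = el 1 ^ 2 * el 0 ^ 5 * (el 4 * (el 1 ^ 2 * el 0 ^ 5)⁻¹) := by
  have h := misc_ok
  simp only [Bool.and_eq_true] at h
  refine eq_of_nets (by rw [map_mul, map_mul]; exact ((net_el 3).mul (net_el 4)).mul (net_el 3)) ?_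
    h.1.1.1.1.1.1.1.1.1.1.1.1.1.1.1.1.1.1.1.1.1.1.2
  simp only [map_mul, map_inv, map_pow]
  exact (((net_el 1).pow 2).mul ((net_el 0).pow 5)).mul
    ((net_el 4).mul ((((net_el 1).pow 2).mul ((net_el 0).pow 5)).rev))

theorem e_conj : el 4 = elW eWord * z0 * (elW eWord)⁻¹ := by
  have h := misc_ok
  simp only [Bool.and_eq_true] at h
  refine eq_mul_inv_of_mul_eq ?_
  exact eq_of_nets (by rw [map_mul]; exact (net_el 4).mul (net_elW eWord))
    (by rw [map_mul, z0, map_pow]; exact (net_elW eWord).mul ((net_el 1).pow 2))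
    h.1.1.1.1.1.1.1.1.1.1.1.1.1.1.1.1.1.1.1.1.1.2

theorem uwu : el 3 * el 2 * el 3 = el 2 ^ 2 * el 3 * el 2 ^ 2 := by
  have h := misc_ok
  simp only [Bool.and_eq_true] at h
  refine eq_of_nets (by rw [map_mul, map_mul]; exact ((net_el 3).mul (net_el 2)).mul (net_el 3))
    ?_ h.1.1.1.1.1.1.1.1.1.1.1.1.1.1.1.1.1.1.1.1.2
  simp only [map_mul, map_pow]
  exact (((net_el 2).pow 2).mul (net_el 3)).mul ((net_el 2).pow 2)

theorem u_P : phi (el 3) qP1 = qP2 ∧ phi (el 3) qP2 = qP1 := by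
  have h := misc_ok
  simp only [Bool.and_eq_true] at h
  exact ⟨sendsE (x := qP1) (y := qP2) h.1.1.1.1.1.1.1.1.1.1.1.1.1.1.1.1.1.1.1.2,
    sendsE (x := qP2) (y := qP1) h.1.1.1.1.1.1.1.1.1.1.1.1.1.1.1.1.1.1.2⟩

theorem e_moves : phi (el 4) qP1 ≠ qP1 ∧ phi (el 4) qP2 ≠ qP2 := by
  have h := misc_ok
  simp only [Bool.and_eq_true] at h
  exact ⟨(net_el 4).moves (p := qP1) h.1.1.1.1.1.1.1.1.1.1.1.1.1.1.1.1.1.2,
    (net_el 4).moves (p := qP2) h.1.1.1.1.1.1.1.1.1.1.1.1.1.1.1.1.2⟩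

theorem h_pts : phi (el 18) q1 = q19 ∧ phi (el 19) q1 = q3 ∧ phi (el 20) q1 = q7 := by
  have h := misc_ok
  simp only [Bool.and_eq_true] at h
  exact ⟨sendsE (x := q1) (y := q19) h.1.1.1.1.1.1.1.1.1.1.1.1.1.1.1.2,
    sendsE (x := q1) (y := q3) h.1.1.1.1.1.1.1.1.1.1.1.1.1.1.2,
    sendsE (x := q1) (y := q7) h.1.1.1.1.1.1.1.1.1.1.1.1.1.2⟩

theorem F_fix {k : ℕ} (hk : 4 ≤ k) (hk' : k ≤ 17) : el k ∈ C3 := by
  rcases hk.eq_or_lt with rfl | hk4
  · exact el_mem_gen (by decide)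
  have h := misc_ok
  simp only [Bool.and_eq_true, List.all_eq_true (l := [5, 6, 7, 8, 9, 10, 11, 12, 13, 14, 15, 16, 17])] at h
  rw [C3_eq]
  refine ⟨el_mem_H (by omega), sendsE (x := q1) (y := q1) (h.2 k ?_)⟩
  simp only [List.mem_cons, List.not_mem_nil, or_false]
  omega

/-- the subgroup of `C3` fixing 19 has only that fixed point -/
theorem L19_fix : (phi (el 13) q19 = q19 ∧ phi (el 14) q19 = q19) ∧ ∀ q : Pt, phi (el 13) q = q → phi (el 14) q = q →
    (D0.testBit q = true → q = q1 ∨ q = q19) ∧ D1.testBit q = false := by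
  have h := misc_ok
  simp only [Bool.and_eq_true] at h
  refine ⟨⟨sendsE (x := q19) (y := q19) h.1.1.1.1.1.1.1.1.1.1.1.1.2,
    sendsE (x := q19) (y := q19) h.1.1.1.1.1.1.1.1.1.1.1.2⟩, fun q h13 h14 => ⟨fun hq => ?_, ?_⟩⟩
  · have e := congrArg (fun n => n.testBit q) (Nat.eq_of_beq_eq_true h.1.1.1.1.1.1.1.1.1.1.2)
    simp only [land_eq, lor_eq, Nat.testBit_and, Nat.testBit_or, (fixMask_spec (net_el 13) q).2 h13,
      (fixMask_spec (net_el 14) q).2 h14, hq, testBit_one1] at e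
    rcases (by simpa using e.symm : (q : ℕ) = 1 ∨ (q : ℕ) = 19) with e | e
    exacts [Or.inl (Fin.ext e), Or.inr (Fin.ext e)]
  · have e := congrArg (fun n => n.testBit q) (Nat.eq_of_beq_eq_true h.1.1.1.1.1.1.1.1.1.2)
    simpa [land_eq, Nat.testBit_and, (fixMask_spec (net_el 13) q).2 h13, (fixMask_spec (net_el 14) q).2 h14] using e

/-- the subgroup of `C3` fixing 3 has only that fixed point -/
theorem L3_fix : (phi (el 15) q3 = q3 ∧ phi (el 16) q3 = q3) ∧ ∀ q : Pt, phi (el 15) q = q → phi (el 16) q = q →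
    (D0.testBit q = true → q = q1 ∨ q = q3) ∧ D1.testBit q = false := by
  have h := misc_ok
  simp only [Bool.and_eq_true] at h
  refine ⟨⟨sendsE (x := q3) (y := q3) h.1.1.1.1.1.1.1.1.2,
    sendsE (x := q3) (y := q3) h.1.1.1.1.1.1.1.2⟩, fun q h13 h14 => ⟨fun hq => ?_, ?_⟩⟩
  · have e := congrArg (fun n => n.testBit q) (Nat.eq_of_beq_eq_true h.1.1.1.1.1.1.2)
    simp only [land_eq, lor_eq, Nat.testBit_and, Nat.testBit_or, (fixMask_spec (net_el 15) q).2 h13,
      (fixMask_spec (net_el 16) q).2 h14, hq, testBit_one1] at e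
    rcases (by simpa using e.symm : (q : ℕ) = 1 ∨ (q : ℕ) = 3) with e | e
    exacts [Or.inl (Fin.ext e), Or.inr (Fin.ext e)]
  · have e := congrArg (fun n => n.testBit q) (Nat.eq_of_beq_eq_true h.1.1.1.1.1.2)
    simpa [land_eq, Nat.testBit_and, (fixMask_spec (net_el 15) q).2 h13, (fixMask_spec (net_el 16) q).2 h14] using e

theorem w19 : (∃ j ∈ C3, phi j q3 = phi (el 2) q19) ∧ ∃ j ∈ C3, phi j qP1 = phi (el 2 ^ 2) q19 := by
  have h := misc_ok
  simp only [Bool.and_eq_true] at h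
  have e1 : phi (el 2) q19 = ⟨3664, by norm_num⟩ :=
    sendsE (x := q19) (y := ⟨3664, by norm_num⟩) h.1.1.2
  have e2 : phi (el 2 ^ 2) q19 = ⟨3521, by norm_num⟩ := by
    rw [pow_two, map_mul, Equiv.Perm.mul_apply, e1]
    exact sendsE (x := ⟨3664, by norm_num⟩) (y := ⟨3521, by norm_num⟩) h.1.2
  rw [e1, e2]
  exact ⟨grow_one (p := q3) (j := ⟨3664, by norm_num⟩) (gen_nets [0, 1, 4]) h.1.1.1.1.2,
    grow_one (p := qP1) (j := ⟨3521, by norm_num⟩) (gen_nets [0, 1, 4]) h.1.1.1.2⟩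

end CfsgLib.RuRankThree
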