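import Cfsg.Agent.Lib.RuRankThree.Emb
import Cfsg.Agent.Lib.RuRankThree.ConfigData

/-!
An element exchanging two adjacent points, normalised on their stabiliser.
-/
set_option autoImplicit false
set_option maxRecDepth 8000
set_option Elab.async false

namespace CfsgLib.RuRankThree

open CfsgLib.Presented CfsgLib.Presented.Vec

attribute [local irreducible] bitCount grow applyNet el

/-- the element of order 13 -/
noncomputable abbrev yH : H := ⟨el 0, el_mem_H (by decide)⟩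
/-- the element of order 4 normalising it -/
noncomputable abbrev hH : H := ⟨el 1, el_mem_H (by decide)⟩
/-- the element of order 3 normalising it -/
noncomputable abbrev wH : H := ⟨el 2, el_mem_H (by decide)⟩
/-- the third generator -/
noncomputable abbrev eH : H := ⟨el 4, el_mem_H (by decide)⟩

theorem y_Ps : phi (el 0) qP1 = qP1 ∧ phi (el 0) qP2 = qP2 ∧ phi (el 1) qP1 = qP1 ∧ phi (el 1) qP2 = qP2 := by
  have hp := y_rels
  simp only [Bool.and_eq_true] at hp
  have hb : ∀ q : Pt, (Nat.lor (one1 1) (Nat.lor (one1 2215) (one1 3034))).testBit q = true → phi (el 0) q = q := by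
    intro q hq
    rw [← Nat.eq_of_beq_eq_true hp.2, land_eq, Nat.testBit_and, Bool.and_eq_true] at hq
    exact (fixMask_spec (net_el 0) q).1 hq.1
  have h1 : phi (el 1) qP1 = qP1 := by
    have hf := fix_ok
    simp only [Bool.and_eq_true, List.all_eq_true (l := [0, 1])] at hf
    exact sendsE (x := qP1) (y := qP1) (hf.1.1.2 1 (by decide))
  refine ⟨hb _ (by simp [lor_eq, testBit_one1]), hb _ (by simp [lor_eq, testBit_one1]), h1, ?_⟩
  rw [← w_pts.2.1, ← Equiv.Perm.mul_apply, ← map_mul, ← w_h, map_mul, Equiv.Perm.mul_apply, h1]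

theorem pow_inj_y {i : ℕ} (h : el 0 ^ i = 1) : i % 13 = 0 :=
  Nat.mod_eq_zero_of_dvd (orderOf_y ▸ orderOf_dvd_of_pow_eq_one h)

theorem h_pow_conj : ∀ l : ℕ, el 1 ^ l * el 0 = el 0 ^ (5 ^ l) * el 1 ^ l
  | 0 => by simp
  | l + 1 => by rw [pow_succ, mul_assoc, h_y, ← mul_assoc, conj_pow_y (h_pow_conj l), mul_assoc, pow_succ]

/-- an element of `C3` commuting with the element of order 13 is one of its powers -/
theorem cent_y {x : R0} (hx : x ∈ C3) (hy : x * el 0 = el 0 * x) : ∃ i < 13, x = el 0 ^ i := by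
  have hn : x ∈ N52 := N52_eq.1 ▸ ⟨hx, mem_NY.2 ⟨1, by rw [hy, pow_one]⟩⟩
  obtain ⟨l, i, hl, hi, e⟩ := N52_form hn
  refine ⟨i, hi, ?_⟩
  have e1 : x * el 0 = el 0 ^ (5 ^ l) * x := by
    rw [e, mul_assoc, ← pow_succ, pow_succ', ← mul_assoc, h_pow_conj, mul_assoc]
  rw [hy] at e1
  have e2 : el 0 ^ 1 = el 0 ^ (5 ^ l) := by rw [pow_one]; exact mul_right_cancel e1
  rw [pow_eq_pow_iff_modEq, orderOf_y] at e2
  have hl0 : l = 0 := by
    revert e2
    interval_cases l <;> simp [Nat.ModEq]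
  rw [e, hl0, pow_zero, one_mul]

theorem cent_yh {x : R0} (hx : x ∈ C3) (hy : x * el 0 = el 0 * x) (hh : x * el 1 = el 1 * x) : x = 1 := by
  obtain ⟨i, hi, rfl⟩ := cent_y hx hy
  rw [y_h] at hh
  have e2 := mul_left_cancel hh
  rw [pow_eq_pow_iff_modEq, orderOf_y] at e2
  have : i = 0 := by
    unfold Nat.ModEq at e2
    omega
  rw [this, pow_zero]

namespace Emb

variable {Ω : Type*} {G : Subgroup (Equiv.Perm Ω)} {a : Ω} (E : Emb G a)

/-- `b` has the stabiliser of 1 -/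
def Based : Prop := ∀ x : H, E.A x E.b = E.b ↔ phi x q1 = q1

variable {E}

theorem mem_C3_iff {x : H} : (x : R0) ∈ C3 ↔ phi (x : R0) q1 = q1 := by
  rw [C3_eq, Subgroup.mem_inf, mem_St (p := q1)]
  exact and_iff_right x.2

theorem pt_iff (hE : E.Based) (x z : H) : E.A x E.b = E.A z E.b ↔ phi x q1 = phi z q1 := by
  have h := hE (z⁻¹ * x)
  rw [Subgroup.coe_mul, Subgroup.coe_inv, map_mul, map_inv, Equiv.Perm.mul_apply, map_mul, map_inv,
    Equiv.Perm.mul_apply, Equiv.Perm.inv_def, Equiv.Perm.inv_def, Equiv.symm_apply_eq,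
    Equiv.symm_apply_eq] at h
  exact h

/-- exchanges `a` and `b` and normalises the group of order 13 -/
def Swap0 (E : Emb G a) (g : Equiv.Perm Ω) : Prop :=
  g ∈ G ∧ g a = E.b ∧ g E.b = a ∧ ∃ r, g * E.A yH * g⁻¹ = E.A (yH ^ r)

/-- exchanges `a` and `b` and centralises the two generators of the normaliser -/
def Swap (E : Emb G a) (g : Equiv.Perm Ω) : Prop :=
  g ∈ G ∧ g a = E.b ∧ g E.b = a ∧ g * E.A yH * g⁻¹ = E.A yH ∧ g * E.A hH * g⁻¹ = E.A hH

theorem Swap.zero {g : Equiv.Perm Ω} (h : Swap E g) : Swap0 E g :=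
  ⟨h.1, h.2.1, h.2.2.1, 1, by rw [pow_one]; exact h.2.2.2.1⟩

theorem conj_mem (hE : E.Based) {g : Equiv.Perm Ω} (hg : g ∈ G) (ga : g a = E.b) (gb : g E.b = a) {x : H}
    (hx : (x : R0) ∈ C3) : ∃ z : H, (z : R0) ∈ C3 ∧ E.A z = g * E.A x * g⁻¹ := by
  have ha' : g⁻¹ a = E.b := (Equiv.symm_apply_eq g).2 gb.symm
  have hb' : g⁻¹ E.b = a := (Equiv.symm_apply_eq g).2 ga.symm
  obtain ⟨z, hz⟩ := E.surj (g * E.A x * g⁻¹) (G.mul_mem (G.mul_mem hg (E.mem x)) (G.inv_mem hg))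
    (by rw [Equiv.Perm.mul_apply, Equiv.Perm.mul_apply, ha', (hE x).2 (mem_C3_iff.1 hx), gb])
  refine ⟨z, mem_C3_iff.2 ((hE z).1 ?_), hz⟩
  rw [hz, Equiv.Perm.mul_apply, Equiv.Perm.mul_apply, hb', E.fix, ga]

theorem exists_swap0 (hE : E.Based) : ∃ g, Swap0 E g := by
  obtain ⟨g, hg, ga, gb⟩ := E.exists_swap
  obtain ⟨z, hzC, hz⟩ := conj_mem hE hg ga gb (x := yH) (el_mem_gen (k := 0) (ks := [0, 1, 4]) (by decide))
  have oz : orderOf (z : R0) = 13 := by
    rw [Subgroup.orderOf_coe, ← orderOf_injective E.A E.inj, hz, ← MulAut.conj_apply,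
      ← MulEquiv.coe_toMonoidHom, orderOf_injective _ (MulAut.conj g).injective,
      orderOf_injective E.A E.inj, ← Subgroup.orderOf_coe, orderOf_y]
  obtain ⟨x, hx, i, hi⟩ := conj_thirteen (L := C3) (by rw [card_C3]; norm_num) hzC
    (el_mem_gen (k := 0) (by decide)) oz orderOf_y
  have hxH : x ∈ H := (C3_le hx).1
  refine ⟨E.A ⟨x, hxH⟩ * g, G.mul_mem (E.mem _) hg, ?_, ?_, i, ?_⟩
  · rw [Equiv.Perm.mul_apply, ga]
    exact (hE _).2 ((mem_C3_iff (x := ⟨x, hxH⟩)).1 hx)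
  · rw [Equiv.Perm.mul_apply, gb, E.fix]
  · calc E.A ⟨x, hxH⟩ * g * E.A yH * (E.A ⟨x, hxH⟩ * g)⁻¹
        = E.A ⟨x, hxH⟩ * (g * E.A yH * g⁻¹) * (E.A ⟨x, hxH⟩)⁻¹ := by group
      _ = E.A (⟨x, hxH⟩ * z * ⟨x, hxH⟩⁻¹) := by rw [← hz, map_mul, map_mul, map_inv]
      _ = E.A (yH ^ i) := congrArg E.A (Subtype.ext (by simpa using hi))

/-- the point attached to a power of the element of order 3 -/
noncomputable def P (E : Emb G a) (i : ℕ) : Ω := E.A (wH ^ i) E.b

theorem wH_three : wH ^ 3 = 1 := Subtype.ext (by simpa using w_three)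

theorem W_pts : E.A wH E.b = E.P 1 ∧ E.A wH (E.P 1) = E.P 2 ∧ E.A wH (E.P 2) = E.b := by
  refine ⟨by rw [P, pow_one], ?_, ?_⟩
  · rw [P, P, ← Equiv.Perm.mul_apply, ← map_mul, ← pow_succ']
  · rw [P, ← Equiv.Perm.mul_apply, ← map_mul, ← pow_succ', wH_three, map_one, Equiv.Perm.one_apply]

theorem Y_facts : E.A yH ^ 13 = 1 ∧ E.A yH ≠ 1 := by
  refine ⟨by rw [← map_pow, show yH ^ 13 = 1 from Subtype.ext (by simpa using y_thirteen), map_one], fun e => ?_⟩
  have h1 : yH = 1 := E.inj (e.trans (map_one E.A).symm)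
  have h2 := orderOf_y
  rw [show el 0 = 1 from congrArg Subtype.val h1, orderOf_one] at h2
  omega

theorem W_conj : E.A wH * E.A yH * (E.A wH)⁻¹ = E.A yH ^ 9 := by
  rw [mul_inv_eq_iff_eq_mul, ← map_pow, ← map_mul, ← map_mul]
  exact congrArg E.A (Subtype.ext (by simpa using w_y))

theorem conj_comp {s t Y : Equiv.Perm Ω} {m n : ℕ} (hs : s * Y * s⁻¹ = Y ^ m) (ht : t * Y * t⁻¹ = Y ^ n) :
    s * t * Y * (s * t)⁻¹ = Y ^ (m * n) := by
  rw [show s * t * Y * (s * t)⁻¹ = s * (t * Y * t⁻¹) * s⁻¹ by group, ht, ← conj_pow, hs, ← pow_mul]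

theorem conj_back {g Y : Equiv.Perm Ω} {r : ℕ} (hY : Y ^ 13 = 1) (hY1 : Y ≠ 1) (hg : g * Y * g⁻¹ = Y ^ r) :
    ∃ s, r * s % 13 = 1 ∧ g⁻¹ * Y * g⁻¹⁻¹ = Y ^ s := by
  have hr : r % 13 ≠ 0 := fun h0 => by
    rw [← Nat.mod_add_div r 13, pow_add, pow_mul Y 13, hY, one_pow, mul_one, h0, pow_zero, mul_inv_eq_one] at hg
    exact hY1 (mul_eq_left.1 hg)
  have hs : ∀ t < 13, t ≠ 0 → ∃ s < 13, t * s % 13 = 1 := by decide
  obtain ⟨s, -, hs⟩ := hs (r % 13) (Nat.mod_lt _ (by norm_num)) hr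
  have hrs : r * s % 13 = 1 := by rw [Nat.mul_mod, ← Nat.mod_mod r, ← Nat.mul_mod, hs]
  refine ⟨s, hrs, ?_⟩
  have e : Y = g * Y ^ s * g⁻¹ := by
    rw [← conj_pow, hg, ← pow_mul, ← Nat.mod_add_div (r * s) 13, pow_add, pow_mul Y 13, hY, one_pow, mul_one,
      hrs, pow_one]
  conv_lhs => rw [e]
  group

theorem mem_NY_of_conj {x : H} {m : ℕ} (h : E.A x * E.A yH * (E.A x)⁻¹ = E.A yH ^ m) : (x : R0) ∈ NY := by
  rw [mul_inv_eq_iff_eq_mul, ← map_pow, ← map_mul, ← map_mul] at h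
  exact mem_NY.2 ⟨m, by simpa using congrArg Subtype.val (E.inj h)⟩

theorem fix_back {g Y : Equiv.Perm Ω} {r : ℕ} (hY : Y ^ 13 = 1) (hY1 : Y ≠ 1) (hg : g * Y * g⁻¹ = Y ^ r)
    {p : Ω} (hp : Y p = p) : Y (g p) = g p := by
  obtain ⟨s, -, hs⟩ := conj_back hY hY1 hg
  rw [inv_inv] at hs
  have e : Y * g = g * Y ^ s := by rw [← hs]; group
  rw [← Equiv.Perm.mul_apply, e, Equiv.Perm.mul_apply, Equiv.Perm.pow_apply_eq_self_of_apply_eq_self hp]

theorem swap_P (hE : E.Based) {g : Equiv.Perm Ω} (hs : Swap0 E g) :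
    g (E.P 1) = E.P 2 ∧ g (E.P 2) = E.P 1 := by
  obtain ⟨hg, ga, gb, r, gy⟩ := hs
  rw [map_pow] at gy
  obtain ⟨hY, hY1⟩ := Y_facts (E := E)
  have hy : ∀ i, i = 1 ∨ i = 2 → E.A yH (E.P i) = E.P i := fun i hi => by
    rw [P, ← Equiv.Perm.mul_apply, ← map_mul, pt_iff hE, Subgroup.coe_mul, map_mul, Equiv.Perm.mul_apply,
      SubgroupClass.coe_pow]
    rcases hi with rfl | rfl
    · rw [pow_one, w_pts.1, y_Ps.1]
    · rw [w_sq_q1, y_Ps.2.1]
  have hne : ∀ i, i = 1 ∨ i = 2 → E.P i ≠ E.b := by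
    intro i hi e
    rw [P, hE, SubgroupClass.coe_pow] at e
    rcases hi with rfl | rfl
    · rw [pow_one, w_pts.1] at e; exact absurd e (by decide)
    · rw [w_sq_q1] at e; exact absurd e (by decide)
  have key : ∀ i, i = 1 ∨ i = 2 → g (E.P i) = E.P 1 ∨ g (E.P i) = E.P 2 := by
    intro i hi
    have hfix : E.A yH (g (E.P i)) = g (E.P i) := fix_back hY hY1 gy (hy i hi)
    rcases E.cases (g (E.P i)) with h | h | h
    · exact absurd (g.injective (h.trans gb.symm)) (hne i hi)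
    · obtain ⟨x, hx⟩ := h
      rw [← hx] at hfix
      dsimp only at hfix
      rw [← Equiv.Perm.mul_apply, ← map_mul, pt_iff hE, Subgroup.coe_mul, map_mul, Equiv.Perm.mul_apply] at hfix
      rcases y_fix (by rw [D0_inv x.2]; exact D0_q1) hfix with e | e | e
      · have : E.A x E.b = E.b := (hE x).2 e
        exfalso
        have hP : E.P i = a := g.injective (hx.symm.trans (this.trans ga.symm))
        exact E.ne_ab ((E.A (wH ^ i)).injective (hP.trans (E.fix _).symm))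
      · left
        rw [← hx]
        exact (pt_iff hE x (wH ^ 1)).2 (by rw [e, SubgroupClass.coe_pow, pow_one, w_pts.1])
      · right
        rw [← hx]
        exact (pt_iff hE x (wH ^ 2)).2 (by rw [e, SubgroupClass.coe_pow, w_sq_q1])
    · exfalso
      have hcard := E.card_stab_c h
      have := finite_R0
      have hd := Subgroup.orderOf_dvd_natCard (E.stabOf (g (E.P i))) ((E.coe_mem_stabOf yH).2 hfix)
      rw [show ((yH : H) : R0) = el 0 from rfl, orderOf_y] at hd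
      omega
  have h12 : E.P 1 ≠ E.P 2 := fun e => by
    rw [P, P, pt_iff hE, SubgroupClass.coe_pow, SubgroupClass.coe_pow, pow_one, w_pts.1, w_sq_q1] at e
    exact absurd e (by decide)
  rcases key 1 (Or.inl rfl) with h1 | h1 <;> rcases key 2 (Or.inr rfl) with h2 | h2
  · exact absurd (g.injective (h1.trans h2.symm)) h12
  · exfalso
    set W := E.A wH
    obtain ⟨hW1, hW2, hW3⟩ := W_pts (E := E)
    change W E.b = E.P 1 at hW1
    change W (E.P 1) = E.P 2 at hW2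
    change W (E.P 2) = E.b at hW3
    have hWa : W a = a := E.fix _
    have i1 : W⁻¹ (E.P 1) = E.b := (Equiv.symm_apply_eq W).2 hW1.symm
    have i2 : W⁻¹ a = a := (Equiv.symm_apply_eq W).2 hWa.symm
    have i3 : W⁻¹ E.b = E.P 2 := (Equiv.symm_apply_eq W).2 hW3.symm
    have g1 : g⁻¹ E.b = a := (Equiv.symm_apply_eq g).2 ga.symm
    have g2 : g⁻¹ (E.P 2) = E.P 2 := (Equiv.symm_apply_eq g).2 h2.symm
    obtain ⟨x, hx⟩ := E.surj (g⁻¹ * W⁻¹ * g * W * g)
      (G.mul_mem (G.mul_mem (G.mul_mem (G.mul_mem (G.inv_mem hg) (G.inv_mem (E.mem _))) hg) (E.mem _)) hg)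
      (by simp only [Equiv.Perm.mul_apply]; rw [ga, hW1, h1, i1, g1])
    have hxb : E.A x E.b = E.P 2 := by
      rw [hx]; simp only [Equiv.Perm.mul_apply]; rw [gb, hWa, ga, i3, g2]
    have g3 : g⁻¹ a = E.b := (Equiv.symm_apply_eq g).2 gb.symm
    have hx2 : E.A x (E.P 2) = E.b := by
      rw [hx]; simp only [Equiv.Perm.mul_apply]; rw [h2, hW3, gb, i2, g3]
    rw [P, pt_iff hE, SubgroupClass.coe_pow, w_sq_q1] at hxb
    rw [P, ← Equiv.Perm.mul_apply, ← map_mul, hE, Subgroup.coe_mul, SubgroupClass.coe_pow, map_mul,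
      Equiv.Perm.mul_apply, w_sq_q1] at hx2
    -- `x` normalises the group of order 13
    have hxn : (x : R0) ∈ NY := by
      obtain ⟨r', -, gy'⟩ := conj_back hY hY1 gy
      obtain ⟨w', -, hW'⟩ := conj_back hY hY1 (W_conj (E := E))
      refine mem_NY_of_conj (E := E) (m := r' * w' * r * 9 * r) ?_
      rw [hx]
      exact conj_comp (conj_comp (conj_comp (conj_comp gy' hW') gy) W_conj) gy
    obtain ⟨j, l, i, hj, -, -, ex⟩ := NY_form x.2 hxn
    have hfl : phi (el 1 ^ l * el 0 ^ i) qP2 = qP2 ∧ phi (el 1 ^ l * el 0 ^ i) q1 = q1 := by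
      simp only [map_mul, map_pow, Equiv.Perm.mul_apply]
      exact ⟨by rw [Equiv.Perm.pow_apply_eq_self_of_apply_eq_self y_Ps.2.1,
          Equiv.Perm.pow_apply_eq_self_of_apply_eq_self y_Ps.2.2.2],
        by rw [Equiv.Perm.pow_apply_eq_self_of_apply_eq_self y_fixes.1,
          Equiv.Perm.pow_apply_eq_self_of_apply_eq_self y_fixes.2.1]⟩
    rw [ex, map_mul, Equiv.Perm.mul_apply, hfl.2] at hxb
    rw [ex, map_mul, Equiv.Perm.mul_apply, hfl.1] at hx2
    interval_cases j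
    · rw [pow_zero, map_one] at hxb
      exact absurd hxb (by decide)
    · rw [pow_one, w_pts.1] at hxb
      exact absurd hxb (by decide)
    · rw [pow_two, map_mul, Equiv.Perm.mul_apply, w_pts.2.2, w_pts.1] at hx2
      exact absurd hx2 (by decide)
  · exact ⟨h1, h2⟩
  · exact absurd (g.injective (h1.trans h2.symm)) h12

theorem exists_swap_yh (hE : E.Based) : ∃ g, Swap E g := by
  obtain ⟨g, hs⟩ := exists_swap0 hE
  obtain ⟨hP1, hP2⟩ := swap_P hE hs
  obtain ⟨hg, ga, gb, r, gy⟩ := hs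
  set W := E.A wH with hW
  obtain ⟨hW1, hW2, hW3⟩ := W_pts (E := E)
  rw [← hW] at hW1 hW2 hW3
  have hWa : W a = a := E.fix _
  have i1 : W⁻¹ (E.P 1) = E.b := (Equiv.symm_apply_eq W).2 hW1.symm
  have i2 : W⁻¹ a = a := (Equiv.symm_apply_eq W).2 hWa.symm
  have i3 : W⁻¹ E.b = E.P 2 := (Equiv.symm_apply_eq W).2 hW3.symm
  have g1 : g⁻¹ E.b = a := (Equiv.symm_apply_eq g).2 ga.symm
  have g0 : g⁻¹ a = E.b := (Equiv.symm_apply_eq g).2 gb.symm
  have g2 : g⁻¹ (E.P 2) = E.P 1 := (Equiv.symm_apply_eq g).2 hP1.symm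
  set g' := W * W * g * W⁻¹ * g⁻¹ * W⁻¹ with hg'
  rw [map_pow] at gy
  obtain ⟨hY, hY1⟩ := Y_facts (E := E)
  have gy' : g' * E.A yH * g'⁻¹ = E.A yH := by
    obtain ⟨r', hrr, gi⟩ := conj_back hY hY1 gy
    obtain ⟨w', hww, hW'⟩ := conj_back hY hY1 (W_conj (E := E))
    refine (conj_comp (conj_comp (conj_comp (conj_comp (conj_comp W_conj W_conj) gy) hW') gi) hW').trans ?_
    have : 9 * 9 * r * w' * r' * w' % 13 = 1 := by
      rw [show 9 * 9 * r * w' * r' * w' = (9 * w') * (9 * w') * (r * r') by ring, Nat.mul_mod, hrr,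
        Nat.mul_mod (9 * w'), hww]
    rw [← Nat.mod_add_div (9 * 9 * r * w' * r' * w') 13, this, pow_add, pow_mul _ 13, hY, one_pow, mul_one, pow_one]
  have ga' : g' a = E.b := by
    simp only [hg', Equiv.Perm.mul_apply]; rw [i2, g0, i3, hP2, hW2, hW3]
  have gb' : g' E.b = a := by
    simp only [hg', Equiv.Perm.mul_apply]; rw [i3, g2, i1, gb, hWa, hWa]
  have hg'G : g' ∈ G := G.mul_mem (G.mul_mem (G.mul_mem (G.mul_mem (G.mul_mem (E.mem _) (E.mem _)) hg)
    (G.inv_mem (E.mem _))) (G.inv_mem hg)) (G.inv_mem (E.mem _))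
  -- adjust so that the element of order 4 is centralised
  obtain ⟨z, hzC, hz⟩ := conj_mem hE hg'G ga' gb' (x := hH) (el_mem_gen (k := 1) (ks := [0, 1, 4]) (by decide))
  have hrel : (z : R0) * el 0 = el 0 ^ 5 * z := by
    have h0 : hH * yH = yH ^ 5 * hH := Subtype.ext (by simpa using h_y)
    have h1 : z * yH = yH ^ 5 * z := by
      refine E.inj ?_
      have h2 := congrArg (fun t => g' * E.A t * g'⁻¹) h0
      simp only [map_mul, map_pow] at h2 ⊢
      rw [hz]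
      calc g' * E.A hH * g'⁻¹ * E.A yH = g' * E.A hH * g'⁻¹ * (g' * E.A yH * g'⁻¹) := by rw [gy']
        _ = g' * (E.A hH * E.A yH) * g'⁻¹ := by group
        _ = (g' * E.A yH * g'⁻¹) ^ 5 * (g' * E.A hH * g'⁻¹) := by rw [h2, conj_pow]; group
        _ = _ := by rw [gy']
    simpa using congrArg (fun t : H => (t : R0)) h1
  obtain ⟨i, -, hi⟩ := cent_y (x := (el 1)⁻¹ * z) (C3.mul_mem (C3.inv_mem (el_mem_gen (by decide))) hzC) (by
    rw [mul_assoc, hrel, ← mul_assoc, ← mul_assoc]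
    refine congrArg (· * (z : R0)) ?_
    rw [inv_mul_eq_iff_eq_mul, ← mul_assoc, h_y, mul_inv_cancel_right])
  have hzi : (z : R0) = el 1 * el 0 ^ i := by rw [← hi, mul_inv_cancel_left]
  have hcancel : yH ^ (11 * i) * z * (yH ^ (11 * i))⁻¹ = hH := by
    refine mul_inv_eq_iff_eq_mul.2 (Subtype.ext ?_)
    simp only [Subgroup.coe_mul, SubgroupClass.coe_pow, hzi]
    rw [← mul_assoc, y_h, mul_assoc, ← pow_add, ← pow_y_mod, ← pow_y_mod (11 * i),
      show (8 * (11 * i) + i) % 13 = 11 * i % 13 by omega]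
  have hm : E.A (yH ^ (11 * i)) E.b = E.b := (hE _).2 (by
    rw [SubgroupClass.coe_pow, map_pow]
    exact Equiv.Perm.pow_apply_eq_self_of_apply_eq_self y_fixes.1 _)
  refine ⟨E.A (yH ^ (11 * i)) * g', G.mul_mem (E.mem _) hg'G, by rw [Equiv.Perm.mul_apply, ga', hm],
    by rw [Equiv.Perm.mul_apply, gb', E.fix], ?_, ?_⟩
  · calc E.A (yH ^ (11 * i)) * g' * E.A yH * (E.A (yH ^ (11 * i)) * g')⁻¹
        = E.A (yH ^ (11 * i)) * (g' * E.A yH * g'⁻¹) * (E.A (yH ^ (11 * i)))⁻¹ := by group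
      _ = E.A yH := by rw [gy', map_pow, ← pow_succ, pow_succ', mul_inv_cancel_right]
  · calc E.A (yH ^ (11 * i)) * g' * E.A hH * (E.A (yH ^ (11 * i)) * g')⁻¹
        = E.A (yH ^ (11 * i)) * (g' * E.A hH * g'⁻¹) * (E.A (yH ^ (11 * i)))⁻¹ := by group
      _ = E.A hH := by rw [← hz, ← map_inv, ← map_mul, ← map_mul, hcancel]

theorem commute_of {g x : Equiv.Perm Ω} (h : g * x * g⁻¹ = x) : Commute g x := mul_inv_eq_iff_eq_mul.1 h

/-- an element of `G` fixing `a` and `b` and commuting with the two generators is trivial -/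
theorem eq_one_of_cent (hE : E.Based) {s : Equiv.Perm Ω} (hs : s ∈ G) (sa : s a = a) (sb : s E.b = E.b)
    (sy : Commute s (E.A yH)) (sh : Commute s (E.A hH)) : s = 1 := by
  obtain ⟨z, rfl⟩ := E.surj s hs sa
  have hzC : (z : R0) ∈ C3 := mem_C3_iff.2 ((hE z).1 sb)
  have e : (z : R0) = 1 := cent_yh hzC
    (by simpa using congrArg Subtype.val (E.inj ((map_mul E.A z yH).trans (sy.eq.trans (map_mul E.A yH z).symm))))
    (by simpa using congrArg Subtype.val (E.inj ((map_mul E.A z hH).trans (sh.eq.trans (map_mul E.A hH z).symm))))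
  rw [show z = 1 from Subtype.ext e, map_one]

theorem g_sq (hE : E.Based) {g : Equiv.Perm Ω} (hs : Swap E g) : g * g = 1 := by
  obtain ⟨hg, ga, gb, gy, gh⟩ := hs
  exact eq_one_of_cent hE (G.mul_mem hg hg) (by rw [Equiv.Perm.mul_apply, ga, gb])
    (by rw [Equiv.Perm.mul_apply, gb, ga]) ((commute_of gy).mul_left (commute_of gy))
    ((commute_of gh).mul_left (commute_of gh))

theorem gwg (hE : E.Based) {g : Equiv.Perm Ω} (hs : Swap E g) :
    g * E.A wH * g = E.A (wH ^ 2) * g * E.A (wH ^ 2) := by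
  obtain ⟨hP1, hP2⟩ := swap_P hE hs.zero
  have hsq := g_sq hE hs
  obtain ⟨hg, ga, gb, gy, gh⟩ := hs
  set W := E.A wH with hW
  obtain ⟨hW1, hW2, hW3⟩ := W_pts (E := E)
  rw [← hW] at hW1 hW2 hW3
  have hWa : W a = a := E.fix _
  have hwh : Commute W (E.A hH) := (show Commute wH hH from Subtype.ext (by simpa using w_h)).map E.A
  have hwy : W * E.A yH = E.A yH ^ 9 * W := by
    rw [hW, ← map_pow, ← map_mul, ← map_mul]
    exact congrArg E.A (Subtype.ext (by simpa using w_y))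
  have hY : E.A yH ^ 13 = 1 := by
    rw [← map_pow, show yH ^ 13 = 1 from Subtype.ext (by simpa using y_thirteen), map_one]
  have step : SemiconjBy (W * g) (E.A yH) (E.A yH ^ 9) := by
    show W * g * E.A yH = E.A yH ^ 9 * (W * g)
    rw [mul_assoc, (commute_of gy).eq, ← mul_assoc, hwy, mul_assoc]
  have hcy : Commute (W * g * (W * g) * (W * g)) (E.A yH) := by
    have h3 := ((step.pow_right 81).mul_left ((step.pow_right 9).mul_left step))
    rw [← pow_mul, ← Nat.mod_add_div (9 * 81) 13, pow_add, pow_mul _ 13, hY, one_pow, mul_one] at h3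
    simpa [Commute, mul_assoc] using h3
  have e := eq_one_of_cent hE (s := W * g * (W * g) * (W * g))
    (G.mul_mem (G.mul_mem (G.mul_mem (E.mem _) hg) (G.mul_mem (E.mem _) hg)) (G.mul_mem (E.mem _) hg))
    (by simp only [Equiv.Perm.mul_apply]; rw [ga, hW1, hP1, hW3, gb, hWa])
    (by simp only [Equiv.Perm.mul_apply]; rw [gb, hWa, ga, hW1, hP1, hW3])
    hcy (((hwh.mul_left (commute_of gh)).mul_left (hwh.mul_left (commute_of gh))).mul_left
      (hwh.mul_left (commute_of gh)))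
  have hg' : g⁻¹ = g := inv_eq_of_mul_eq_one_right hsq
  have hW2' : E.A (wH ^ 2) = W⁻¹ := by
    rw [hW, ← map_inv]
    refine congrArg E.A (eq_inv_of_mul_eq_one_left ?_)
    rw [← pow_succ, wH_three]
  calc g * W * g = W⁻¹ * (W * g * (W * g) * (W * g)) * g⁻¹ * W⁻¹ := by group
    _ = E.A (wH ^ 2) * g * E.A (wH ^ 2) := by rw [e, mul_one, hg', hW2']

end Emb

end CfsgLib.RuRankThree
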