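import Cfsg.Agent.Lib.RuRankThree.ConfigData

/-!
Computed facts about the images of the representatives of the orbits of the two-point stabiliser.
-/
set_option autoImplicit false
set_option maxRecDepth 8000
set_option Elab.async false

namespace CfsgLib.RuRankThree

open CfsgLib.Presented CfsgLib.Presented.Vec

attribute [local irreducible] bitCount grow applyNet

/-- the point 167 -/
abbrev q167 : Pt := ⟨167, by norm_num⟩
/-- the point 790 -/
abbrev q790 : Pt := ⟨790, by norm_num⟩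

/-- the orbit representatives -/
def jReps : List (ℕ × ℕ) := [(2215, 5), (3034, 5), (19, 4), (3, 5), (7, 6)]

theorem iso_ok : (sendsB (netEl 3) 19 167 && sendsB (netEl 3) 3 790 && sendsB (netEl 3) 7 550 &&
    sendsB (netEl 17) 7 7 &&
    Nat.beq (Nat.land (Nat.land (fixMask (flatN [3, 13, 3])) (fixMask (flatN [3, 14, 3]))) D0) (Nat.lor (one1 1) (one1 167)) &&
    Nat.beq (Nat.land (Nat.land (fixMask (flatN [3, 13, 3])) (fixMask (flatN [3, 14, 3]))) D1) 0 &&
    Nat.beq (Nat.land (Nat.land (fixMask (flatN [3, 15, 3])) (fixMask (flatN [3, 16, 3]))) D0) (Nat.lor (one1 1) (one1 790)) &&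
    Nat.beq (Nat.land (Nat.land (fixMask (flatN [3, 15, 3])) (fixMask (flatN [3, 16, 3]))) D1) 0 &&
    Nat.beq (Nat.land (fixMask (flatN [3, 17, 3])) D1) (one1 550) &&
    jReps.all (fun r => Nat.blt r.1 4060) &&
    Nat.beq (Nat.land (Nat.lor (one1 1)
      (jReps.foldr (fun r S => Nat.lor (grow ([0, 1, 4].map netEl) (one1 r.1) r.2) S) 0)) D0) D0 &&
    Nat.beq (Nat.land (grow ([0, 1, 4].map netEl) (applyNet (netEl 2 ++ netEl 3).reverse D0) 2) D1) D1) = true := by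
  decide +kernel

theorem u_images : phi (el 3) q19 = q167 ∧ phi (el 3) q3 = q790 ∧ phi (el 3) q7 = q550 ∧ phi (el 17) q7 = q7 := by
  have h := iso_ok
  simp only [Bool.and_eq_true] at h
  obtain ⟨⟨⟨⟨⟨⟨⟨⟨⟨⟨⟨h1, h2⟩, h3⟩, h4⟩, -⟩, -⟩, -⟩, -⟩, -⟩, -⟩, -⟩, -⟩ := h
  exact ⟨sendsE (x := q19) (y := q167) h1, sendsE (x := q3) (y := q790) h2, sendsE (x := q7) (y := q550) h3,
    sendsE (x := q7) (y := q7) h4⟩

theorem net_t (k : ℕ) : NetOf (flatN [3, k, 3]) (phi (el 3 * el k * el 3)) := by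
  have := net_elW [3, k, 3]
  simpa [elW, mul_assoc] using this

theorem t19_fix : ∀ q : Pt, phi (el 3 * el 13 * el 3) q = q → phi (el 3 * el 14 * el 3) q = q →
    (D0.testBit q = true → q = q1 ∨ q = q167) ∧ D1.testBit q = false := by
  have h := iso_ok
  simp only [Bool.and_eq_true] at h
  obtain ⟨⟨⟨⟨⟨⟨⟨⟨⟨⟨⟨-, -⟩, -⟩, -⟩, h5⟩, h6⟩, -⟩, -⟩, -⟩, -⟩, -⟩, -⟩ := h
  refine fun q ha hb => ⟨fun hq => ?_, ?_⟩
  · have e := congrArg (fun n => n.testBit q) (Nat.eq_of_beq_eq_true h5)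
    simp only [land_eq, lor_eq, Nat.testBit_and, Nat.testBit_or, (fixMask_spec (net_t 13) q).2 ha,
      (fixMask_spec (net_t 14) q).2 hb, hq, testBit_one1] at e
    rcases (by simpa using e.symm : (q : ℕ) = 1 ∨ (q : ℕ) = 167) with e | e
    exacts [Or.inl (Fin.ext e), Or.inr (Fin.ext e)]
  · have e := congrArg (fun n => n.testBit q) (Nat.eq_of_beq_eq_true h6)
    simpa [land_eq, Nat.testBit_and, (fixMask_spec (net_t 13) q).2 ha, (fixMask_spec (net_t 14) q).2 hb] using e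

theorem t3_fix : ∀ q : Pt, phi (el 3 * el 15 * el 3) q = q → phi (el 3 * el 16 * el 3) q = q →
    (D0.testBit q = true → q = q1 ∨ q = q790) ∧ D1.testBit q = false := by
  have h := iso_ok
  simp only [Bool.and_eq_true] at h
  obtain ⟨⟨⟨⟨⟨⟨⟨⟨⟨⟨⟨-, -⟩, -⟩, -⟩, -⟩, -⟩, h5⟩, h6⟩, -⟩, -⟩, -⟩, -⟩ := h
  refine fun q ha hb => ⟨fun hq => ?_, ?_⟩
  · have e := congrArg (fun n => n.testBit q) (Nat.eq_of_beq_eq_true h5)
    simp only [land_eq, lor_eq, Nat.testBit_and, Nat.testBit_or, (fixMask_spec (net_t 15) q).2 ha,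
      (fixMask_spec (net_t 16) q).2 hb, hq, testBit_one1] at e
    rcases (by simpa using e.symm : (q : ℕ) = 1 ∨ (q : ℕ) = 790) with e | e
    exacts [Or.inl (Fin.ext e), Or.inr (Fin.ext e)]
  · have e := congrArg (fun n => n.testBit q) (Nat.eq_of_beq_eq_true h6)
    simpa [land_eq, Nat.testBit_and, (fixMask_spec (net_t 15) q).2 ha, (fixMask_spec (net_t 16) q).2 hb] using e

theorem t7_fix {q : Pt} (ha : phi (el 3 * el 17 * el 3) q = q) (hq : D1.testBit q = true) : q = q550 := by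
  have h := iso_ok
  simp only [Bool.and_eq_true] at h
  have h8 := h.1.1.1.2
  have e := congrArg (fun n => n.testBit q) (Nat.eq_of_beq_eq_true h8)
  simp only [land_eq, Nat.testBit_and, (fixMask_spec (net_t 17) q).2 ha, hq, testBit_one1] at e
  exact Fin.ext (of_decide_eq_true e.symm)

theorem nbr_cases {v : Pt} (h : D0.testBit v = true) (hne : v ≠ q1) :
    ∃ j ∈ C3, phi j qP1 = v ∨ phi j qP2 = v ∨ phi j q19 = v ∨ phi j q3 = v ∨ phi j q7 = v := by
  have h' := iso_ok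
  simp only [Bool.and_eq_true] at h'
  have hb := sub_of_land h'.1.2 h
  rw [lor_eq, Nat.testBit_or, testBit_one1, decide_eq_false (fun e => hne (Fin.ext e)), Bool.false_or] at hb
  obtain ⟨r, hr, hb⟩ := foldr_lor_bit (fun r : ℕ × ℕ => grow ([0, 1, 4].map netEl) (one1 r.1) r.2) hb
  simp only [jReps, List.mem_cons, List.not_mem_nil, or_false] at hr
  rcases hr with rfl | rfl | rfl | rfl | rfl
  · obtain ⟨j, hj, e⟩ := grow_one (p := qP1) (gen_nets [0, 1, 4]) hb
    exact ⟨j, hj, Or.inl e⟩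
  · obtain ⟨j, hj, e⟩ := grow_one (p := qP2) (gen_nets [0, 1, 4]) hb
    exact ⟨j, hj, Or.inr (Or.inl e)⟩
  · obtain ⟨j, hj, e⟩ := grow_one (p := q19) (gen_nets [0, 1, 4]) hb
    exact ⟨j, hj, Or.inr (Or.inr (Or.inl e))⟩
  · obtain ⟨j, hj, e⟩ := grow_one (p := q3) (gen_nets [0, 1, 4]) hb
    exact ⟨j, hj, Or.inr (Or.inr (Or.inr (Or.inl e)))⟩
  · obtain ⟨j, hj, e⟩ := grow_one (p := q7) (gen_nets [0, 1, 4]) hb
    exact ⟨j, hj, Or.inr (Or.inr (Or.inr (Or.inr e)))⟩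

theorem D1_cover {x : Pt} (h : D1.testBit x = true) :
    ∃ j ∈ C3, D0.testBit ((phi (el 2) * phi (el 3))⁻¹ (phi j x)) = true := by
  have h' := iso_ok
  simp only [Bool.and_eq_true] at h'
  obtain ⟨j, hj, hb⟩ := grow_spec (K := C3) (gen_nets [0, 1, 4]) (sub_of_land h'.2 h)
  rw [((net_el 2).mul (net_el 3)).rev.bit] at hb
  exact ⟨j, hj, hb⟩

theorem closure_H_u : Subgroup.closure ((H : Set R0) ∪ {el 3}) = ⊤ := by
  set K := Subgroup.closure ((H : Set R0) ∪ {el 3}) with hK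
  refine eq_top_iff.2 fun s _ => ?_
  have h := orbit_ok
  simp only [Bool.and_eq_true] at h
  obtain ⟨k, hk, e⟩ := grow_one (K := K) (p := p0) (fun l hl => by
    obtain ⟨x, hx, rfl⟩ := List.mem_map.1 hl
    refine ⟨el x, ?_, net_el x⟩
    rcases eq_or_ne x 3 with rfl | hx3
    · exact Subgroup.subset_closure (Or.inr rfl)
    · exact Subgroup.subset_closure (Or.inl (el_mem_H hx3))) (sub_of_land h.1.1.1.1.1.1.1.1.1.1.1 (testBit_all (phi s p0)))
  have hks : k⁻¹ * s ∈ H := mem_St.2 (by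
    rw [map_mul, map_inv, Equiv.Perm.mul_apply, ← e, Equiv.Perm.inv_def, Equiv.symm_apply_apply])
  have := K.mul_mem hk (Subgroup.subset_closure (Or.inl hks))
  rwa [mul_inv_cancel_left] at this

end CfsgLib.RuRankThree
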