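import Cfsg.Agent.Lib.RuRankThree.Sigma
import Cfsg.Agent.Lib.RuRankThree.IsoData

/-!
The group is the image of the group of order 145926144000.
-/
set_option autoImplicit false
set_option maxRecDepth 8000
set_option Elab.async false

namespace CfsgLib.RuRankThree

open scoped Pointwise
open CfsgLib.Presented CfsgLib.Presented.Vec

attribute [local irreducible] bitCount grow applyNet el phi

/-- the element moving 1 to 19 -/
noncomputable abbrev r19 : H := ⟨el 18, el_mem_H (by decide)⟩
/-- the element moving 1 to 3 -/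
noncomputable abbrev r3 : H := ⟨el 19, el_mem_H (by decide)⟩
/-- the element moving 1 to 7 -/
noncomputable abbrev r7 : H := ⟨el 20, el_mem_H (by decide)⟩

theorem hH_mem {k : ℕ} (hk : 4 ≤ k) (hk' : k ≤ 17) : el k ∈ H := el_mem_H (by omega)

namespace Emb

variable {Ω : Type*} {G : Subgroup (Equiv.Perm Ω)} {a : Ω} {E : Emb G a}

/-- Everything that has been normalised. -/
structure Norm (E : Emb G a) where
  g : Equiv.Perm Ω
  based : E.Based
  swap : Swap E g
  agree : ∀ x ∈ C3, Agree E g x

variable (M : Norm E)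

theorem ga : M.g a = E.b := M.swap.2.1

theorem gb : M.g E.b = a := M.swap.2.2.1

theorem gP : M.g (E.P 1) = E.P 2 ∧ M.g (E.P 2) = E.P 1 := swap_P M.based M.swap.zero

theorem u_conj_H {x : H} (hx : (x : R0) ∈ C3) : el 3 * (x : R0) * el 3 ∈ H :=
  (C3_le (C3_u hx)).1

/-- the conjugate under `u` -/
noncomputable def conjU (x : H) (hx : (x : R0) ∈ C3) : H := ⟨_, u_conj_H hx⟩

theorem agree_apply {x : H} (hx : (x : R0) ∈ C3) (p : Ω) :
    M.g (E.A x p) = E.A (conjU x hx) (M.g p) := by
  obtain ⟨h, h', e⟩ := M.agree x hx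
  rw [mul_inv_eq_iff_eq_mul] at e
  exact congrArg (fun s : Equiv.Perm Ω => s p) e

/-- the image of the point of a representative -/
theorem t_fix (r : H) {k : ℕ} (hk : 4 ≤ k) (hk' : k ≤ 17) (hfix : phi (el k) (phi (r : R0) q1) = phi (r : R0) q1) :
    E.A (conjU ⟨el k, hH_mem hk hk'⟩ (F_fix hk hk')) (M.g (E.A r E.b)) = M.g (E.A r E.b) := by
  have e := agree_apply M (x := ⟨el k, hH_mem hk hk'⟩) (F_fix hk hk') (E.A r E.b)
  have hf : E.A ⟨el k, hH_mem hk hk'⟩ (E.A r E.b) = E.A r E.b := by
    rw [← Equiv.Perm.mul_apply, ← map_mul, pt_iff M.based, Subgroup.coe_mul, map_mul, Equiv.Perm.mul_apply, hfix]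
  rw [hf] at e
  exact e.symm

theorem image_near (r : H) (q r' : Pt) (hq : phi (r : R0) q1 = q) (hne : q ≠ q1) (k1 k2 : ℕ)
    (h1 : 4 ≤ k1) (h1' : k1 ≤ 17) (h2 : 4 ≤ k2) (h2' : k2 ≤ 17)
    (f1 : phi (el k1) q = q) (f2 : phi (el k2) q = q)
    (hfix : ∀ v : Pt, phi (el 3 * el k1 * el 3) v = v → phi (el 3 * el k2 * el 3) v = v →
      (D0.testBit v = true → v = q1 ∨ v = r') ∧ D1.testBit v = false) :
    ∃ x : H, phi (x : R0) q1 = r' ∧ M.g (E.A r E.b) = E.A x E.b := by
  have e1 := t_fix M r h1 h1' (by rw [hq]; exact f1)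
  have e2 := t_fix M r h2 h2' (by rw [hq]; exact f2)
  rcases E.cases (M.g (E.A r E.b)) with h | h | h
  · exfalso
    exact hne (hq.symm.trans ((M.based r).1 (M.g.injective (h.trans (gb M).symm))))
  · obtain ⟨x, hx⟩ := h
    dsimp only at hx
    rw [← hx, ← Equiv.Perm.mul_apply, ← map_mul, pt_iff M.based, Subgroup.coe_mul, map_mul,
      Equiv.Perm.mul_apply] at e1 e2
    rcases (hfix _ e1 e2).1 (by rw [D0_inv x.2]; exact D0_q1) with e | e
    · exfalso
      have hQa : E.A r E.b = a := M.g.injective (hx.symm.trans (((M.based x).2 e).trans (ga M).symm))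
      exact E.ne_ab ((E.A r).injective (hQa.trans (E.fix r).symm))
    · exact ⟨x, e, hx.symm⟩
  · exfalso
    obtain ⟨p, hp, hP⟩ := parabolic (E.stabOf_le _) (E.card_stab_c h)
    have g1 := mem_St.1 (hP.le ((E.coe_mem_stabOf _).2 e1)).2
    have g2 := mem_St.1 (hP.le ((E.coe_mem_stabOf _).2 e2)).2
    rw [(hfix p g1 g2).2] at hp
    exact absurd hp (by decide)

theorem image19 : ∃ x : H, phi (x : R0) q1 = q167 ∧ M.g (E.A r19 E.b) = E.A x E.b :=
  image_near M r19 q19 q167 h_pts.1 (by decide) 13 14 (by norm_num) (by norm_num) (by norm_num) (by norm_num)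
    L19_fix.1.1 L19_fix.1.2 t19_fix

theorem image3 : ∃ x : H, phi (x : R0) q1 = q790 ∧ M.g (E.A r3 E.b) = E.A x E.b :=
  image_near M r3 q3 q790 h_pts.2.1 (by decide) 15 16 (by norm_num) (by norm_num) (by norm_num) (by norm_num)
    L3_fix.1.1 L3_fix.1.2 t3_fix

/-- the point attached to 550 -/
noncomputable def d (M : Norm E) : Ω := M.g (E.A r7 E.b)

theorem d_far : d M ∈ Set.range fun x => E.A x E.c := by
  rcases E.cases (d M) with h | h | h
  · exfalso
    have e : phi (el 20) q1 = q1 := (M.based r7).1 (M.g.injective (h.trans (gb M).symm))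
    rw [h_pts.2.2] at e
    exact absurd e (by decide)
  · exfalso
    -- `{a}` with the orbit of `b` would be preserved by a subgroup of impossible order
    have := E.finite
    set X : Set Ω := insert a (Set.range fun z => E.A z E.b) with hX
    have hgX : ∀ p ∈ X, M.g p ∈ X := by
      rintro p (rfl | ⟨z, rfl⟩)
      · exact Or.inr (by rw [ga]; exact E.self_mem _)
      · rcases eq_or_ne (phi z q1) q1 with e1 | e1
        · left
          show M.g (E.A z E.b) = a
          rw [(M.based z).2 e1, gb]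
        · right
          have hz : D0.testBit (phi (z : R0) q1) = true := by rw [D0_inv z.2]; exact D0_q1
          obtain ⟨j, hj, hje⟩ := nbr_cases hz e1
          have hjH : j ∈ H := (C3_le hj).1
          have key : ∀ (r : H) (q : Pt), phi (r : R0) q1 = q → phi j q = phi (z : R0) q1 →
              M.g (E.A r E.b) ∈ Set.range (fun t => E.A t E.b) →
              M.g (E.A z E.b) ∈ Set.range (fun t => E.A t E.b) := by
            intro r q hr hq hmem
            have e : E.A z E.b = E.A ⟨j, hjH⟩ (E.A r E.b) := by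
              rw [← Equiv.Perm.mul_apply, ← map_mul, pt_iff M.based, Subgroup.coe_mul, map_mul,
                Equiv.Perm.mul_apply, hr, hq]
            rw [e, agree_apply M (x := ⟨j, hjH⟩) hj]
            obtain ⟨t, ht⟩ := hmem
            exact ⟨conjU ⟨j, hjH⟩ hj * t, by rw [← ht]; simp only [map_mul]; rfl⟩
          rcases hje with e | e | e | e | e
          · refine key (wH ^ 1) qP1 (by rw [SubgroupClass.coe_pow, pow_one, w_pts.1]) e ?_
            rw [show E.A (wH ^ 1) E.b = E.P 1 from rfl, (gP M).1]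
            exact ⟨_, rfl⟩
          · refine key (wH ^ 2) qP2 (by rw [SubgroupClass.coe_pow, w_sq_q1]) e ?_
            rw [show E.A (wH ^ 2) E.b = E.P 2 from rfl, (gP M).2]
            exact ⟨_, rfl⟩
          · obtain ⟨x, -, hx⟩ := image19 M
            exact key r19 q19 h_pts.1 e ⟨x, hx.symm⟩
          · obtain ⟨x, -, hx⟩ := image3 M
            exact key r3 q3 h_pts.2.1 e ⟨x, hx.symm⟩
          · exact key r7 q7 h_pts.2.2 e h
    have hAX : ∀ (z : H), ∀ p ∈ X, E.A z p ∈ X := by
      rintro z p (rfl | ⟨w, rfl⟩)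
      · exact Or.inl (E.fix _)
      · exact Or.inr ⟨z * w, by simp only [map_mul]; rfl⟩
    let S : Subgroup (Equiv.Perm Ω) := MulAction.stabilizer (Equiv.Perm Ω) X
    have hmaps : ∀ s : Equiv.Perm Ω, (∀ p ∈ X, s p ∈ X) → s ∈ S := fun s hs => by
      rw [MulAction.mem_stabilizer_iff]
      refine Set.eq_of_subset_of_ncard_le ?_ ?_
      · rintro _ ⟨p, hp, rfl⟩; exact hs p hp
      · exact le_of_eq (Set.ncard_image_of_injective X (MulAction.injective s)).symm
    let K : Subgroup (Equiv.Perm Ω) := G ⊓ S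
    have hKA : ∀ z, E.A z ∈ K := fun z => ⟨E.mem z, hmaps _ (hAX z)⟩
    have hKg : M.g ∈ K := ⟨M.swap.1, hmaps _ hgX⟩
    have horb : MulAction.orbit K a = X := by
      ext p
      constructor
      · rintro ⟨s, rfl⟩
        have hs : (s : Equiv.Perm Ω) • X = X := (s.2).2
        rw [← hs]
        exact Set.smul_mem_smul_set (Or.inl rfl)
      · rintro (rfl | ⟨z, rfl⟩)
        · exact MulAction.mem_orbit_self _
        · exact ⟨⟨E.A z * M.g, K.mul_mem (hKA z) hKg⟩, by
            show (E.A z * M.g) a = E.A z E.b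
            rw [Equiv.Perm.mul_apply, ga]⟩
    have hstab : Nat.card (MulAction.stabilizer K a) = 35942400 := by
      rw [← card_H]
      refine (Nat.card_congr (Equiv.ofBijective
        (fun z : H => (⟨⟨E.A z, hKA z⟩, E.fix z⟩ : MulAction.stabilizer K a)) ⟨?_, ?_⟩)).symm
      · intro z w e
        exact E.inj (congrArg (fun s : MulAction.stabilizer K a => ((s : K) : Equiv.Perm Ω)) e)
      · rintro ⟨⟨s, hs⟩, h⟩
        obtain ⟨z, rfl⟩ := E.surj s hs.1 h
        exact ⟨z, rfl⟩
    have hXc : Nat.card X = 2305 := by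
      rw [Nat.card_coe_set_eq, hX, Set.ncard_insert_of_notMem, E.hb]
      intro ha
      have := congrArg Set.ncard (E.range_eq ha)
      rw [E.range_a, Set.ncard_singleton, E.hb] at this
      omega
    have hcard := (MulAction.stabilizer K a).card_eq_card_quotient_mul_card_subgroup
    rw [← Nat.card_congr (MulAction.orbitEquivQuotientStabilizer K a), hstab, horb, hXc] at hcard
    have hdvd := Subgroup.card_dvd_of_le (show K ≤ G from inf_le_left)
    rw [hcard, E.card_G] at hdvd
    norm_num at hdvd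
  · exact h

theorem stab_d (x : H) : E.A x (d M) = d M ↔ phi (x : R0) q550 = q550 := by
  obtain ⟨p, hp, hP⟩ := parabolic (E.stabOf_le (d M)) (E.card_stab_c (d_far M))
  have e := t_fix M r7 (k := 17) (by norm_num) (by norm_num) (by rw [h_pts.2.2, u_images.2.2.2])
  have h1 := mem_St.1 (hP.le ((E.coe_mem_stabOf _).2 e)).2
  rw [t7_fix h1 hp] at hP
  rw [← E.coe_mem_stabOf, hP]
  exact and_iff_right x.2

/-- the correspondence of points -/
noncomputable def theta (M : Norm E) (x : Pt) : Ω :=
  if x = p0 then a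
  else if h : D0.testBit x = true then E.A ⟨(D0_trans h).choose, (D0_trans h).choose_spec.1⟩ E.b
  else if h' : D1.testBit x = true then
    E.A ⟨(D1_trans h').choose, (D1_trans h').choose_spec.1⟩ (d M)
  else a

theorem theta_p0 : theta M p0 = a := by rw [theta, if_pos rfl]

theorem theta_D0 (x : H) : theta M (phi (x : R0) q1) = E.A x E.b := by
  have h : D0.testBit (phi (x : R0) q1) = true := by rw [D0_inv x.2]; exact D0_q1
  rw [theta, if_neg (D0_not_p0 h), dif_pos h, pt_iff M.based]
  exact (D0_trans h).choose_spec.2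

theorem theta_D1 (x : H) : theta M (phi (x : R0) q550) = E.A x (d M) := by
  have h : D1.testBit (phi (x : R0) q550) = true := by rw [D1_inv x.2]; exact D1_q550
  obtain ⟨hne, h0⟩ := D1_not h
  rw [theta, if_neg hne, dif_neg (by rw [h0]; decide), dif_pos h]
  set y : H := ⟨(D1_trans h).choose, (D1_trans h).choose_spec.1⟩
  have hy : phi (y : R0) q550 = phi (x : R0) q550 := (D1_trans h).choose_spec.2
  have := (stab_d M (x⁻¹ * y)).2 (by
    rw [Subgroup.coe_mul, Subgroup.coe_inv, map_mul, map_inv, Equiv.Perm.mul_apply, hy, Equiv.Perm.inv_def,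
      Equiv.symm_apply_apply])
  rw [map_mul, map_inv, Equiv.Perm.mul_apply] at this
  exact (Equiv.symm_apply_eq _).1 this

theorem theta_H (x : H) (j : Pt) : theta M (phi (x : R0) j) = E.A x (theta M j) := by
  rcases trichotomy j with rfl | h | h
  · rw [mem_St.1 x.2, theta_p0, E.fix]
  · obtain ⟨y, hy, rfl⟩ := D0_trans h
    have e1 := theta_D0 M (x * ⟨y, hy⟩)
    have e2 := theta_D0 M ⟨y, hy⟩
    rw [Subgroup.coe_mul, map_mul, map_mul, Equiv.Perm.mul_apply, Equiv.Perm.mul_apply] at e1
    exact e1.trans (congrArg _ e2.symm)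
  · obtain ⟨y, hy, rfl⟩ := D1_trans h
    have e1 := theta_D1 M (x * ⟨y, hy⟩)
    have e2 := theta_D1 M ⟨y, hy⟩
    rw [Subgroup.coe_mul, map_mul, map_mul, Equiv.Perm.mul_apply, Equiv.Perm.mul_apply] at e1
    exact e1.trans (congrArg _ e2.symm)

theorem theta_u_rep (r : H) (q q' : Pt) (hr : phi (r : R0) q1 = q) (hu : phi (el 3) q = q')
    (h : M.g (E.A r E.b) = theta M q') : theta M (phi (el 3) q) = M.g (theta M q) := by
  rw [hu, ← h, ← hr, theta_D0]

theorem theta_u_near {v : Pt} (h : v = p0 ∨ D0.testBit v = true) :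
    theta M (phi (el 3) v) = M.g (theta M v) := by
  have hb : theta M q1 = E.b := by
    have := theta_D0 M (1 : H)
    rwa [Subgroup.coe_one, map_one, Equiv.Perm.one_apply, map_one, Equiv.Perm.one_apply] at this
  rcases h with rfl | h
  · rw [u_swap.1, hb, theta_p0, ga]
  rcases eq_or_ne v q1 with rfl | hne
  · rw [u_swap.2, hb, theta_p0, gb]
  obtain ⟨j, hj, hje⟩ := nbr_cases h hne
  have hjH : j ∈ H := (C3_le hj).1
  let jH : H := ⟨j, hjH⟩
  let jH' : H := conjU jH hj
  have main : ∀ q : Pt, phi j q = v → theta M (phi (el 3) q) = M.g (theta M q) →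
      theta M (phi (el 3) v) = M.g (theta M v) := by
    intro q hq hrep
    have hconj : phi (el 3) (phi j q) = phi (jH' : R0) (phi (el 3) q) := by
      show _ = phi (el 3 * j * el 3) (phi (el 3) q)
      rw [← Equiv.Perm.mul_apply, ← map_mul, ← Equiv.Perm.mul_apply, ← map_mul, mul_assoc _ (el 3), u_sq, mul_one]
    rw [← hq, hconj, theta_H, hrep, show phi j = phi (jH : R0) from rfl, theta_H,
      agree_apply M (x := jH) hj]
  have h1 : theta M qP1 = E.P 1 := by
    rw [← w_pts.1, P, pow_one]; exact theta_D0 M wH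
  have h2 : theta M qP2 = E.P 2 := by
    rw [← w_sq_q1, P, ← theta_D0 M (wH ^ 2), SubgroupClass.coe_pow]
  obtain ⟨hu19, hu3, hu7, -⟩ := u_images
  rcases hje with e | e | e | e | e
  · exact main _ e (by rw [u_P.1, h2, h1, (gP M).1])
  · exact main _ e (by rw [u_P.2, h1, h2, (gP M).2])
  · obtain ⟨x, hx, hxe⟩ := image19 M
    exact main _ e (theta_u_rep M r19 q19 q167 h_pts.1 hu19 (by rw [hxe, ← hx, theta_D0]))
  · obtain ⟨x, hx, hxe⟩ := image3 M
    exact main _ e (theta_u_rep M r3 q3 q790 h_pts.2.1 hu3 (by rw [hxe, ← hx, theta_D0]))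
  · refine main _ e (theta_u_rep M r7 q7 q550 h_pts.2.2 hu7 ?_)
    have := theta_D1 M (1 : H)
    rw [Subgroup.coe_one, map_one, Equiv.Perm.one_apply, map_one, Equiv.Perm.one_apply] at this
    rw [this]; rfl

theorem theta_u (x : Pt) : theta M (phi (el 3) x) = M.g (theta M x) := by
  rcases trichotomy x with h | h | h
  · exact theta_u_near M (Or.inl h)
  · exact theta_u_near M (Or.inr h)
  obtain ⟨j0, hj0, hb⟩ := D1_cover h
  set v := ((phi (el 2) * phi (el 3))⁻¹) (phi j0 x) with hv
  have hx : x = phi (j0⁻¹) (phi (el 2) (phi (el 3) v)) := by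
    rw [hv, ← Equiv.Perm.mul_apply (phi (el 2)), Equiv.Perm.inv_def, Equiv.apply_symm_apply, ← Equiv.Perm.mul_apply,
      ← map_mul, inv_mul_cancel, map_one, Equiv.Perm.one_apply]
  let jH : H := ⟨j0⁻¹, (C3_le (C3.inv_mem hj0)).1⟩
  have hjC : (jH : R0) ∈ C3 := C3.inv_mem hj0
  let jH' : H := conjU jH hjC
  have e1 : phi (el 3) x = phi (jH' : R0) (phi (el 2 ^ 2) (phi (el 3) (phi (el 2 ^ 2) v))) := by
    rw [hx]
    simp only [← Equiv.Perm.mul_apply, ← map_mul]
    refine congrArg (fun s => phi s v) ?_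
    show el 3 * (j0⁻¹ * (el 2 * el 3)) = el 3 * j0⁻¹ * el 3 * (el 2 ^ 2 * (el 3 * el 2 ^ 2))
    calc el 3 * (j0⁻¹ * (el 2 * el 3)) = el 3 * j0⁻¹ * (el 3 * el 3) * el 2 * el 3 := by
          rw [u_sq, mul_one]; simp only [mul_assoc]
      _ = el 3 * j0⁻¹ * el 3 * (el 3 * el 2 * el 3) := by simp only [mul_assoc]
      _ = _ := by rw [uwu]; simp only [mul_assoc]
  have hv2 : D0.testBit (phi (el 2 ^ 2) v) = true := by
    rw [D0_inv (H.pow_mem wH.2 2)]; exact hb
  have e2 : el 2 ^ 2 = ((wH ^ 2 : H) : R0) := (SubgroupClass.coe_pow wH 2).symm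

  rw [e1, theta_H]
  rw [e2] at hv2 ⊢
  rw [theta_H, theta_u_near M (Or.inr hv2), theta_H, hx, show phi (j0⁻¹) = phi (jH : R0) from rfl, theta_H,
    show phi (el 2) = phi (wH : R0) from rfl, theta_H, theta_u_near M (Or.inr hb), agree_apply M hjC]
  refine congrArg _ ?_
  have := congrArg (fun s : Equiv.Perm Ω => s (theta M v)) (gwg M.based M.swap)
  simp only [Equiv.Perm.mul_apply] at this
  exact this.symm

theorem theta_bij : Function.Bijective (theta M) := by
  have := E.finite
  have hinj : Function.Injective (theta M) := by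
    have far : ∀ x z : H, E.A x (d M) ≠ E.A z E.b := fun x z e => by
      have h1 := E.range_eq (d_far M)
      have h2 : (Set.range fun t => E.A t (d M)) = Set.range fun t => E.A t E.b := by
        rw [← E.range_eq (p := d M) ⟨x, rfl⟩, ← E.range_eq (p := E.b) ⟨z, rfl⟩]
        simp only [e]
      have := congrArg Set.ncard (h1.symm.trans h2)
      rw [E.hc, E.hb] at this
      omega
    have hnb : ∀ z : H, E.A z E.b ≠ a := fun z e => E.ne_ab ((E.A z).injective (e.trans (E.fix z).symm))
    have hnd : ∀ z : H, E.A z (d M) ≠ a := fun z e => by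
      have h1 : d M = a := (E.A z).injective (e.trans (E.fix z).symm)
      have h2 := congrArg Set.ncard (E.range_eq (d_far M))
      rw [h1, E.range_a, Set.ncard_singleton, E.hc] at h2
      omega
    intro x z e
    rcases trichotomy x with rfl | hx | hx
    · rcases trichotomy z with rfl | hz | hz
      · rfl
      · obtain ⟨s, hs, rfl⟩ := D0_trans hz
        rw [theta_p0, theta_D0 M ⟨s, hs⟩] at e
        exact absurd e.symm (hnb _)
      · obtain ⟨s, hs, rfl⟩ := D1_trans hz
        rw [theta_p0, theta_D1 M ⟨s, hs⟩] at e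
        exact absurd e.symm (hnd _)
    · obtain ⟨r, hr, rfl⟩ := D0_trans hx
      rw [theta_D0 M ⟨r, hr⟩] at e
      rcases trichotomy z with rfl | hz | hz
      · rw [theta_p0] at e; exact absurd e (hnb _)
      · obtain ⟨s, hs, rfl⟩ := D0_trans hz
        rw [theta_D0 M ⟨s, hs⟩] at e
        exact (pt_iff M.based ⟨r, hr⟩ ⟨s, hs⟩).1 e
      · obtain ⟨s, hs, rfl⟩ := D1_trans hz
        rw [theta_D1 M ⟨s, hs⟩] at e
        exact absurd e.symm (far _ _)
    · obtain ⟨r, hr, rfl⟩ := D1_trans hx
      rw [theta_D1 M ⟨r, hr⟩] at e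
      rcases trichotomy z with rfl | hz | hz
      · rw [theta_p0] at e; exact absurd e (hnd _)
      · obtain ⟨s, hs, rfl⟩ := D0_trans hz
        rw [theta_D0 M ⟨s, hs⟩] at e
        exact absurd e (far _ _)
      · obtain ⟨s, hs, rfl⟩ := D1_trans hz
        rw [theta_D1 M ⟨s, hs⟩] at e
        have := (stab_d M (⟨s, hs⟩⁻¹ * ⟨r, hr⟩)).1 (by
          rw [map_mul, map_inv, Equiv.Perm.mul_apply, e, Equiv.Perm.inv_def, Equiv.symm_apply_apply])
        rw [Subgroup.coe_mul, Subgroup.coe_inv, map_mul, map_inv, Equiv.Perm.mul_apply] at this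
        exact (Equiv.symm_apply_eq _).1 this
  have : Fintype Ω := Fintype.ofFinite Ω
  rw [Fintype.bijective_iff_injective_and_card]
  refine ⟨hinj, ?_⟩
  rw [Fintype.card_fin, ← Nat.card_eq_fintype_card, E.card]

omit M in
theorem iso (M : Norm E) : Nonempty (G ≃* R0) := by
  have := E.finite
  let e := Equiv.ofBijective (theta M) (theta_bij M)
  let ρ : R0 →* Equiv.Perm Ω := MonoidHom.mk' (fun s => e.permCongr (phi s)) fun s t => by
    ext p
    simp [Equiv.permCongr_apply, map_mul]
  have hρ : ∀ s (p : Pt), ρ s (theta M p) = theta M (phi s p) := fun s p => by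
    show e.permCongr (phi s) (e p) = e (phi s p)
    rw [Equiv.permCongr_apply, Equiv.symm_apply_apply]
  have hall : (⊤ : Subgroup R0) ≤ G.comap ρ := by
    rw [← closure_H_u, Subgroup.closure_le]
    rintro s (hs | hs)
    · have e1 : ρ s = E.A ⟨s, hs⟩ := by
        refine Equiv.ext fun q => ?_
        obtain ⟨p, rfl⟩ := (theta_bij M).2 q
        rw [hρ]
        exact theta_H M ⟨s, hs⟩ p
      show ρ s ∈ G
      rw [e1]; exact E.mem _
    · rw [Set.mem_singleton_iff] at hs
      subst hs
      have e1 : ρ (el 3) = M.g := by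
        refine Equiv.ext fun q => ?_
        obtain ⟨p, rfl⟩ := (theta_bij M).2 q
        rw [hρ]
        exact theta_u M p
      show ρ (el 3) ∈ G
      rw [e1]; exact M.swap.1
  have hinj : Function.Injective ρ := e.permCongr.injective.comp phi_injective
  have heq : ρ.range = G := by
    refine Subgroup.eq_of_le_of_card_ge ?_ ?_
    · rintro _ ⟨s, rfl⟩; exact hall (Subgroup.mem_top s)
    · rw [E.card_G, Nat.card_congr (MonoidHom.ofInjective hinj).symm.toEquiv, card_R0]
  exact ⟨((MonoidHom.ofInjective hinj).trans (MulEquiv.subgroupCongr heq)).symm⟩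

end Emb

end CfsgLib.RuRankThree
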