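import Cfsg.Agent.Lib.RuRankThree.Iso
import Cfsg.Agent.Lib.RuRankThree.Bridge

/-!
Rank three recognition of the group of order 145926144000.
-/
set_option autoImplicit false
set_option maxRecDepth 8000

namespace CfsgLib.RuRankThree

/-- A transitive group of degree 4060 with point stabiliser ²F₄(2) and suborbits of lengths 1755 and 2304. -/
theorem nonempty_equiv_R0 {Ω : Type*} [Fintype Ω] (hΩ : Fintype.card Ω = 4060) (G : Subgroup (Equiv.Perm Ω))
    [MulAction.IsPretransitive G Ω] (a : Ω) (e : MulAction.stabilizer G a ≃* Cfsg.Lie.twistedF4 (ZMod 2) 1) (b c : Ω)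
    (hb : (MulAction.orbit (MulAction.stabilizer G a) b).ncard = 1755)
    (hc : (MulAction.orbit (MulAction.stabilizer G a) c).ncard = 2304) : Nonempty (G ≃* R0) := by
  obtain ⟨e1⟩ := nonempty_equiv
  let β := e1.symm.trans e.symm
  let E : Emb G a :=
    { A := (G.subtype.comp (MulAction.stabilizer G a).subtype).comp β.toMonoidHom
      inj := fun x y h => β.injective (Subtype.ext (Subtype.ext h))
      mem := fun x => (β x : G).2
      fix := fun x => (β x).2
      surj := fun s hs h => ⟨β.symm ⟨⟨s, hs⟩, h⟩, by simp⟩
      card := by rw [Nat.card_eq_fintype_card, hΩ]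
      trans := fun p q => by
        obtain ⟨s, hs⟩ := MulAction.exists_smul_eq G p q
        exact ⟨s, s.2, hs⟩
      b := c
      c := b
      hb := by
        rw [← hc]
        congr 1
        exact β.surjective.range_comp fun s : MulAction.stabilizer G a => s • c
      hc := by
        rw [← hb]
        congr 1
        exact β.surjective.range_comp fun s : MulAction.stabilizer G a => s • b }
  obtain ⟨E', -, hE'⟩ := E.exists_base
  obtain ⟨g, hs, hag⟩ := Emb.exists_norm hE'
  exact Emb.iso ⟨g, hE', hs, hag⟩

end CfsgLib.RuRankThree
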