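import Cfsg.Agent.Lib.RuRankThree.Perm
import Cfsg.Agent.Lib.RuRankThree.Tables
import Cfsg.Agent.Lib.RuRankThree.GenData
import Cfsg.Agent.Lib.Sporadic.Ru.Chain

/-!
The group of order 145926144000 as permutations of 4060 vectors.
-/
set_option autoImplicit false
set_option maxRecDepth 8000
set_option Elab.async false

namespace CfsgLib.RuRankThree

open scoped Matrix
open CfsgLib.Presented CfsgLib.Presented.Vec
open CfsgLib.Sporadic
open CfsgLib.Sporadic.Ru

/-- the group -/
abbrev R0 : Subgroup GL28 := grp g0Gens

theorem card_R0 : Nat.card R0 = 145926144000 := card_grp_g0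

theorem finite_R0 : Finite R0 := Nat.finite_of_card_ne_zero (by rw [card_R0]; norm_num)

/-! ### The vectors -/

/-- vector `i` -/
noncomputable def vec (i : Pt) : Fin 28 → ZMod 2 := fun b => coord slicesV i b

/-- the number with the coordinates of vector `i` -/
noncomputable def valOf (i : ℕ) : ℕ := Nat.ofBits fun b : Fin 28 => (slicesV.getD b 0).testBit i

theorem sorted_ok : (Nat.beq slicesV.length 28 &&
    Nat.beq (Nat.land (ltVec slicesV (slicesV.map fun s => Nat.shiftRight s 1) 0) (ones 4059)) (ones 4059)) = true := by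
  decide +kernel

theorem valOf_succ {i : ℕ} (hi : i < 4059) : valOf i < valOf (i + 1) := by
  have h := sorted_ok
  rw [Bool.and_eq_true] at h
  have hlen := Nat.eq_of_beq_eq_true h.1
  have hb := sub_of_land h.2 (j := i) (by rw [testBit_ones]; exact decide_eq_true hi)
  rw [ltVec_spec slicesV (slicesV.map fun s => Nat.shiftRight s 1) 0 0 (valOf i) (valOf (i + 1)) i (by simp)
    ?_ (by simp [Nat.mod_one]), decide_eq_true_eq, hlen, Nat.zero_add] at hb
  · rwa [Nat.mod_eq_of_lt (by exact Nat.ofBits_lt_two_pow _), Nat.mod_eq_of_lt (by exact Nat.ofBits_lt_two_pow _)] at hb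
  · intro b hb'
    rw [hlen] at hb'
    refine ⟨?_, ?_⟩
    · rw [Nat.zero_add, valOf, Nat.testBit_ofBits_lt _ _ hb']
    · rw [Nat.zero_add, valOf, Nat.testBit_ofBits_lt _ _ hb', List.getD_eq_getElem _ _ (by simp [hlen, hb']),
        List.getElem_map, show ∀ a b : ℕ, Nat.shiftRight a b = a >>> b from fun _ _ => rfl,
        Nat.testBit_shiftRight, Nat.add_comm, List.getD_eq_getElem _ _ (by simp [hlen, hb'])]

theorem valOf_strict {i j : ℕ} (hij : i < j) (hj : j < 4060) : valOf i < valOf j := by
  induction j with
  | zero => omega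
  | succ j ih =>
    have h1 := valOf_succ (i := j) (by omega)
    rcases Nat.lt_or_ge i j with h | h
    · exact (ih h (by omega)).trans h1
    · obtain rfl : i = j := by omega
      exact h1

theorem vec_injective : Function.Injective vec := by
  intro i j e
  have hv : valOf i = valOf j := by
    refine congrArg Nat.ofBits (funext fun b => ?_)
    have := congrFun e b
    simp only [vec, coord] at this
    revert this
    cases (slicesV.getD (↑b) 0).testBit i <;> cases (slicesV.getD (↑b) 0).testBit j <;> simp
  rcases lt_trichotomy (i : ℕ) j with h | h | h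
  · exact absurd hv (valOf_strict h j.2).ne
  · exact Fin.ext h
  · exact absurd hv (valOf_strict h i.2).ne'

/-- the code moves the vectors as the network moves the points -/
noncomputable def linOK (c : ℕ) (l : List Stage) : Bool :=
  force c fun c => netOKN l &&
    moveB l slicesV (applyRows slicesV 28 fun b k => c.testBit (b * 28 + k)) 28

theorem linOK_spec {c : ℕ} {l : List Stage} (h : linOK c l = true) {g : GL28} (e : emb g = dec c) :
    ∃ π : Pm, NetOf l π ∧ ∀ i, g.1 *ᵥ vec i = vec (π i) := by
  rw [linOK, force_eq, Bool.and_eq_true] at h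
  refine ⟨netToPerm l h.1, netToPerm_net l h.1, fun i => funext fun b => ?_⟩
  show _ = coord slicesV ((netToPerm l h.1 i : Pt) : ℕ) (b : ℕ)
  rw [coord_move (netToPerm_net l h.1) h.2 i b.2, coord_applyRows _ _ _ b.2, ← emb_apply, e,
    Matrix.mulVec, dotProduct, ← Fin.sum_univ_eq_sum_range]
  refine Finset.sum_congr rfl fun k _ => ?_
  rw [dec, decF2, Matrix.of_apply, vec]
  cases c.testBit (b.1 * 28 + k.1) <;> rfl

theorem gens_ok : (Nat.beq g0Gens.length 2 && (List.range 2).all fun j =>
    linOK (g0Gens.getD j 0) (netsG.getD j [])) = true := by decide +kernel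

theorem exists_perm {g : GL28} (hg : g ∈ R0) : ∃ π : Pm, ∀ i, g.1 *ᵥ vec i = vec (π i) := by
  induction hg using Subgroup.closure_induction with
  | mem x hx =>
    obtain ⟨c, hc, e⟩ := hx
    have h := gens_ok
    simp only [Bool.and_eq_true, List.all_eq_true, List.mem_range] at h
    obtain ⟨j, hj, rfl⟩ := List.getElem_of_mem hc
    have := h.2 j (by rw [← Nat.eq_of_beq_eq_true h.1]; exact hj)
    rw [List.getD_eq_getElem _ _ hj] at this
    obtain ⟨π, -, hπ⟩ := linOK_spec this e
    exact ⟨π, hπ⟩
  | one => exact ⟨1, fun i => by simp⟩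
  | mul x y _ _ hx hy =>
    obtain ⟨π, hπ⟩ := hx
    obtain ⟨σ, hσ⟩ := hy
    exact ⟨π * σ, fun i => by rw [Units.val_mul, ← Matrix.mulVec_mulVec, hσ, hπ, Equiv.Perm.mul_apply]⟩
  | inv x _ hx =>
    obtain ⟨π, hπ⟩ := hx
    refine ⟨π⁻¹, fun i => ?_⟩
    have := hπ (π⁻¹ i)
    rw [Equiv.Perm.inv_def, Equiv.apply_symm_apply] at this
    rw [← this, Matrix.mulVec_mulVec, ← Units.val_mul, inv_mul_cancel, Units.val_one, Matrix.one_mulVec,
      Equiv.Perm.inv_def]

/-- the action on the vectors -/
noncomputable def phi : R0 →* Pm where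
  toFun g := (exists_perm g.2).choose
  map_one' := Equiv.ext fun i => vec_injective (by
    rw [← (exists_perm (1 : R0).2).choose_spec i]; simp)
  map_mul' x y := Equiv.ext fun i => vec_injective (by
    rw [← (exists_perm (x * y).2).choose_spec i, Subgroup.coe_mul, Units.val_mul, ← Matrix.mulVec_mulVec,
      (exists_perm y.2).choose_spec i, (exists_perm x.2).choose_spec, Equiv.Perm.mul_apply])

theorem phi_spec (g : R0) (i : Pt) : g.1.1 *ᵥ vec i = vec (phi g i) := (exists_perm g.2).choose_spec i

theorem phi_eq {g : R0} {π : Pm} (h : ∀ i, g.1.1 *ᵥ vec i = vec (π i)) : phi g = π :=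
  Equiv.ext fun i => vec_injective ((phi_spec g i).symm.trans (h i))

theorem span_ok : (Nat.beq spanning.length 28 && (List.range 28).all fun k =>
    (spanning.getD k []).all (fun i => Nat.blt i 4060) && (List.range 28).all fun b =>
      (((spanning.getD k []).map fun i => ((slicesV.getD b 0).testBit i).toNat).sum % 2 == (b == k).toNat)) = true := by
  decide +kernel

theorem phi_injective : Function.Injective phi := by
  refine (injective_iff_map_eq_one phi).2 fun g hg => Subtype.ext (Units.ext (Matrix.toLin'.injective ?_))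
  refine (Pi.basisFun (ZMod 2) (Fin 28)).ext fun k => ?_
  rw [Pi.basisFun_apply, Matrix.toLin'_apply, Matrix.toLin'_apply]
  have h := span_ok
  simp only [Bool.and_eq_true, List.all_eq_true, List.mem_range, Nat.blt_eq, beq_iff_eq] at h
  obtain ⟨hlt, hsum⟩ := h.2 k k.2
  set L := spanning.getD k [] with hL
  have e : (Pi.single k (1 : ZMod 2) : Fin 28 → ZMod 2) =
      ((L.attach.map fun i => vec ⟨i.1, hlt i.1 i.2⟩).sum) := by
    funext b
    have hmap : ((L.attach.map fun i => vec ⟨i.1, hlt i.1 i.2⟩).sum) b =
        ((L.map fun i => ((slicesV.getD (↑b) 0).testBit i).toNat).sum : ZMod 2) := by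
      have hc : ∀ l : List (Fin 28 → ZMod 2), l.sum b = (l.map fun v => v b).sum := fun l => by
        induction l with
        | nil => rfl
        | cons v l ih => simp [ih]
      rw [hc, List.map_map, Nat.cast_list_sum, List.map_map]
      conv_rhs => rw [← List.attach_map_subtype_val L, List.map_map]
      rfl
    rw [hmap, ← ZMod.natCast_mod, hsum b b.2, Pi.single_apply]
    by_cases hb : b = k
    · subst hb; simp
    · rw [if_neg hb, show ((b : ℕ) == (k : ℕ)) = false from by simpa [← Fin.ext_iff] using hb]; simp
  rw [e]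
  have hfix : ∀ l : List Pt, g.1.1 *ᵥ (l.map vec).sum = (l.map vec).sum := by
    intro l
    induction l with
    | nil => simp
    | cons i l ih =>
      rw [List.map_cons, List.sum_cons, Matrix.mulVec_add, ih, phi_spec, hg, Equiv.Perm.one_apply]
  have h1 := hfix (L.attach.map fun i => ⟨i.1, hlt i.1 i.2⟩)
  rw [List.map_map] at h1
  show g.1.1 *ᵥ _ = ((1 : R0) : GL28).1 *ᵥ _
  rw [Subgroup.coe_one, Units.val_one, Matrix.one_mulVec]
  exact h1

/-! ### The named elements -/

/-- the code of a named element -/
noncomputable def elCode (k : ℕ) : ℕ :=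
  wordCode (mulF2 28) one [(4060, g0T), (2304, g1T), (975, g2T), (16, g3T)] (quads.getD k 0)

theorem el_exists (k : ℕ) : ∃ x : R0, emb x.1 = dec (elCode k) := by
  obtain ⟨g, hg, e⟩ := wordCode_mem (emb := emb) (dec := dec) (mul := mulF2 28) (one := one) dec_mul dec_one
    (K := R0) _ low0 (quads.getD k 0)
  exact ⟨⟨g, hg⟩, e⟩

/-- the named elements -/
noncomputable def el (k : ℕ) : R0 := if k < 80 then (el_exists k).choose else 1

/-- their networks -/
def netEl (k : ℕ) : List Stage := nets.getD k []

theorem lengths_ok : (Nat.beq nets.length 80 && Nat.beq quads.length 80) = true := by decide +kernel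

/-- the network agrees with the element -/
noncomputable def elOK (k : ℕ) : Bool := linOK (elCode k) (netEl k)

theorem el_ok0 : (List.range 20).all (fun k => elOK k) = true := by decide +kernel
theorem el_ok1 : (List.range 20).all (fun k => elOK (20 + k)) = true := by decide +kernel
theorem el_ok2 : (List.range 20).all (fun k => elOK (40 + k)) = true := by decide +kernel
theorem el_ok3 : (List.range 20).all (fun k => elOK (60 + k)) = true := by decide +kernel

theorem el_ok {k : ℕ} (hk : k < 80) : elOK k = true := by
  have get : ∀ {o : ℕ}, (List.range 20).all (fun j => elOK (o + j)) = true → o ≤ k → k < o + 20 → elOK k = true := by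
    intro o h h1 h2
    have := List.all_eq_true.1 h (k - o) (List.mem_range.2 (by omega))
    rwa [Nat.add_sub_cancel' h1] at this
  by_cases h : k < 20
  · exact List.all_eq_true.1 el_ok0 k (List.mem_range.2 h)
  by_cases h : k < 40
  · exact get el_ok1 (by omega) (by omega)
  by_cases h : k < 60
  · exact get el_ok2 (by omega) (by omega)
  exact get el_ok3 (by omega) (by omega)

theorem el_ge {k : ℕ} (hk : 80 ≤ k) : el k = 1 ∧ netEl k = [] := by
  have h := lengths_ok
  rw [Bool.and_eq_true] at h
  exact ⟨if_neg (by omega), List.getD_eq_default _ _ (le_of_eq_of_le (Nat.eq_of_beq_eq_true h.1) hk)⟩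

theorem net_el (k : ℕ) : NetOf (netEl k) (phi (el k)) := by
  rcases lt_or_ge k 80 with hk | hk
  · have e : emb (el k).1 = dec (elCode k) := by rw [el, if_pos hk]; exact (el_exists k).choose_spec
    obtain ⟨π, hn, hπ⟩ := linOK_spec (el_ok hk) e
    rwa [phi_eq hπ]
  · rw [(el_ge hk).1, (el_ge hk).2, map_one]
    exact NetOf.one

/-- products of named elements -/
noncomputable def elW (w : List ℕ) : R0 := evW el w

/-- their networks -/
def flatN (w : List ℕ) : List Stage := w.flatMap netEl

theorem net_elW (w : List ℕ) : NetOf (flatN w) (phi (elW w)) := by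
  rw [elW, map_evW]
  exact NetOf.flatMap net_el w

theorem eq_of_nets {l l' : List Stage} {x y : R0} (h : NetOf l (phi x)) (h' : NetOf l' (phi y))
    (hs : sameNet l l' = true) : x = y := phi_injective (h.eq_of_same h' hs)

theorem eqW (w w' : List ℕ) (h : sameNet (flatN w) (flatN w') = true) : elW w = elW w' :=
  eq_of_nets (net_elW w) (net_elW w') h

theorem elW_one (a : ℕ) : elW [a] = el a := by simp [elW]
theorem elW_two (a b : ℕ) : elW [a, b] = el a * el b := by simp [elW]
theorem elW_append (w w' : List ℕ) : elW (w ++ w') = elW w * elW w' := evW_append el w w'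
theorem elW_replicate (a n : ℕ) : elW (List.replicate n a) = el a ^ n := by
  induction n with
  | zero => simp [elW]
  | succ n ih => rw [List.replicate_succ, pow_succ', elW, evW_cons, ← ih]; rfl

end CfsgLib.RuRankThree
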