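import Cfsg.Agent.Lib.RuRankThree.Tools

/-!
The two suborbits, and the normaliser of an element of order 13.
-/
set_option autoImplicit false
set_option maxRecDepth 8000
set_option Elab.async false

namespace CfsgLib.RuRankThree

open CfsgLib.Presented CfsgLib.Presented.Vec

attribute [local irreducible] bitCount grow applyNet

/-- the stabiliser of two adjacent points, by generators -/
noncomputable def C3 : Subgroup R0 := gen [0, 1, 4]

theorem y_rels : (sameNet (netPow (netEl 0) 13) [] && !(sameNet (netEl 0) []) &&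
    sameNet (netPow (netEl 1) 4) [] && !(sameNet (netPow (netEl 1) 2) []) && sameNet (netPow (netEl 2) 3) [] &&
    sameNet (netEl 1 ++ netEl 0) (netPow (netEl 0) 5 ++ netEl 1) &&
    sameNet (netEl 2 ++ netEl 0) (netPow (netEl 0) 9 ++ netEl 2) &&
    sameNet (netEl 2 ++ netEl 1) (netEl 1 ++ netEl 2) &&
    (List.range 13).all (fun r => !(sameNet (netEl 4 ++ netEl 0) (netPow (netEl 0) r ++ netEl 4))) &&
    sendsB (netEl 2) 1 2215 && sendsB (netEl 2) 2215 3034 && sendsB (netEl 2) 3034 1 &&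
    Nat.beq (Nat.land (fixMask (netEl 0)) D0) (Nat.lor (one1 1) (Nat.lor (one1 2215) (one1 3034)))) = true := by
  decide +kernel

theorem pow_eq_one_of_same {k n : ℕ} (h : sameNet (netPow (netEl k) n) [] = true) : el k ^ n = 1 :=
  eq_of_nets (by rw [map_pow]; exact (net_el k).pow n) (by rw [map_one]; exact NetOf.one) h

theorem y_thirteen : el 0 ^ 13 = 1 := by
  have h := y_rels
  simp only [Bool.and_eq_true] at h
  exact pow_eq_one_of_same h.1.1.1.1.1.1.1.1.1.1.1.1

theorem h_four : el 1 ^ 4 = 1 := by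
  have h := y_rels
  simp only [Bool.and_eq_true] at h
  exact pow_eq_one_of_same h.1.1.1.1.1.1.1.1.1.1.2

theorem w_three : el 2 ^ 3 = 1 := by
  have h := y_rels
  simp only [Bool.and_eq_true] at h
  exact pow_eq_one_of_same h.1.1.1.1.1.1.1.1.2

theorem h_y : el 1 * el 0 = el 0 ^ 5 * el 1 := by
  have h := y_rels
  simp only [Bool.and_eq_true] at h
  exact eq_of_nets (by rw [map_mul]; exact (net_el 1).mul (net_el 0))
    (by rw [map_mul, map_pow]; exact ((net_el 0).pow 5).mul (net_el 1)) h.1.1.1.1.1.1.1.2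

theorem w_y : el 2 * el 0 = el 0 ^ 9 * el 2 := by
  have h := y_rels
  simp only [Bool.and_eq_true] at h
  exact eq_of_nets (by rw [map_mul]; exact (net_el 2).mul (net_el 0))
    (by rw [map_mul, map_pow]; exact ((net_el 0).pow 9).mul (net_el 2)) h.1.1.1.1.1.1.2

theorem w_h : el 2 * el 1 = el 1 * el 2 := by
  have h := y_rels
  simp only [Bool.and_eq_true] at h
  exact eq_of_nets (by rw [map_mul]; exact (net_el 2).mul (net_el 1))
    (by rw [map_mul]; exact (net_el 1).mul (net_el 2)) h.1.1.1.1.1.2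

theorem w_pts : phi (el 2) q1 = qP1 ∧ phi (el 2) qP1 = qP2 ∧ phi (el 2) qP2 = q1 := by
  have h := y_rels
  simp only [Bool.and_eq_true] at h
  exact ⟨sendsE (x := q1) (y := qP1) h.1.1.1.2, sendsE (x := qP1) (y := qP2) h.1.1.2,
    sendsE (x := qP2) (y := q1) h.1.2⟩

theorem w_sq_q1 : phi (el 2 ^ 2) q1 = qP2 := by
  rw [pow_two, map_mul, Equiv.Perm.mul_apply, w_pts.1, w_pts.2.1]

theorem pow_y_mod (i : ℕ) : el 0 ^ (i % 13) = el 0 ^ i := by
  conv_rhs => rw [← Nat.mod_add_div i 13, pow_add, pow_mul, y_thirteen, one_pow, mul_one]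

theorem orderOf_y : orderOf (el 0) = 13 := by
  have : Fact (Nat.Prime 13) := ⟨by norm_num⟩
  refine orderOf_eq_prime y_thirteen fun h1 => ?_
  have h := y_rels
  simp only [Bool.and_eq_true, Bool.not_eq_true'] at h
  have := (net_el 0).same (l' := []) (by rw [h1, map_one]; exact NetOf.one)
  rw [h.1.1.1.1.1.1.1.1.1.1.1.2] at this
  exact absurd this (by decide)

theorem orderOf_h : orderOf (el 1) = 4 := by
  have h := y_rels
  simp only [Bool.and_eq_true, Bool.not_eq_true'] at h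
  refine orderOf_eq_prime_pow (p := 2) (n := 1) (fun h1 => ?_) h_four
  have := ((net_el 1).pow 2).same (l' := []) (by rw [← map_pow, show el 1 ^ 2 = 1 from h1, map_one]; exact NetOf.one)
  rw [h.1.1.1.1.1.1.1.1.1.2] at this
  exact absurd this (by decide)

/-- the two generators of the normaliser inside the two-point stabiliser -/
noncomputable def N52 : Subgroup R0 := gen [0, 1]

theorem N52_le_C3 : N52 ≤ C3 := gen_le fun k hk => el_mem_gen (by simp only [List.mem_cons] at hk ⊢; tauto)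

theorem card_N52_dvd : 52 ∣ Nat.card N52 := by
  have := finite_R0
  have h1 := Subgroup.orderOf_dvd_natCard N52 (el_mem_gen (k := 0) (by decide))
  have h2 := Subgroup.orderOf_dvd_natCard N52 (el_mem_gen (k := 1) (by decide))
  rw [orderOf_y] at h1
  rw [orderOf_h] at h2
  exact (Nat.Coprime.mul_dvd_of_dvd_of_dvd (by norm_num) h1 h2 : 13 * 4 ∣ _)

theorem C3_le : C3 ≤ H ⊓ St q1 := gen_le fun k hk => by
  have h := fix_ok
  simp only [Bool.and_eq_true, List.all_eq_true (l := [0, 1, 4])] at h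
  refine ⟨el_mem_H ?_, sendsE (x := q1) (y := q1) (h.1.1.1.2 k hk)⟩
  simp only [List.mem_cons, List.not_mem_nil, or_false] at hk
  omega

theorem card_C3_ge : 15600 ≤ Nat.card C3 := by
  have := finite_R0
  have h := orbit_ok
  simp only [Bool.and_eq_true] at h
  have hf := fix_ok
  simp only [Bool.and_eq_true, List.all_eq_true (l := [0, 1])] at hf
  have h1 := mul_card_le (p := qP1) N52_le_C3
    (gen_le fun k hk => sendsE (x := qP1) (y := qP1) (hf.1.1.2 k hk)) (gen_nets [0, 1, 4]) (n := 300) (k := 5) h.1.1.1.1.1.1.1.1.1.1.2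
  have h2 : 52 ≤ Nat.card N52 := Nat.le_of_dvd Nat.card_pos card_N52_dvd
  change 300 * _ ≤ Nat.card C3 at h1
  omega

theorem gen_H : gen hGens = H := by
  have := finite_R0
  have hle : gen hGens ≤ H := gen_le fun k hk => el_mem_H (by
    simp only [hGens, List.mem_cons, List.not_mem_nil, or_false] at hk
    omega)
  refine Subgroup.eq_of_le_of_card_ge hle ?_
  rw [card_H]
  have h := orbit_ok
  simp only [Bool.and_eq_true] at h
  have hC : C3 ≤ gen hGens := gen_le fun k hk => el_mem_gen (by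
    simp only [hGens, List.mem_cons, List.not_mem_nil, or_false] at hk ⊢; omega)
  have hcnt : Nat.ble 2304 (bitCount (grow (hGens.map netEl) (one1 1) 10) 4060) = true := by
    refine Nat.ble_eq_true_of_le ((Nat.eq_of_beq_eq_true h.1.1.1.1.1.1.1.2).symm.trans_le ?_)
    rw [← card_ptsOf, ← card_ptsOf]
    refine Finset.card_le_card fun j hj => ?_
    simp only [ptsOf, Finset.mem_filter, Finset.mem_univ, true_and] at hj ⊢
    exact sub_of_land h.1.1.1.1.1.1.1.1.1.2 hj
  have h1 := mul_card_le (p := q1) hC (C3_le.trans inf_le_right) (gen_nets hGens) (n := 2304) (k := 10) hcnt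
  have h2 := card_C3_ge
  omega

theorem D0_inv {g : R0} (hg : g ∈ H) (j : Pt) : D0.testBit (phi g j) = D0.testBit j := by
  have h := fix_ok
  simp only [Bool.and_eq_true] at h
  exact gen_keeps h.1.2 (gen_H ▸ hg) j

theorem D1_inv {g : R0} (hg : g ∈ H) (j : Pt) : D1.testBit (phi g j) = D1.testBit j := by
  have h := fix_ok
  simp only [Bool.and_eq_true] at h
  exact gen_keeps h.2 (gen_H ▸ hg) j

theorem D0_trans {j : Pt} (h : D0.testBit j = true) : ∃ g ∈ H, phi g q1 = j := by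
  have h' := orbit_ok
  simp only [Bool.and_eq_true] at h'
  obtain ⟨g, hg, e⟩ := grow_one (p := q1) (gen_nets _) (sub_of_land h'.1.1.1.1.1.1.1.1.1.2 h)
  exact ⟨g, gen_H ▸ hg, e⟩

theorem D1_trans {j : Pt} (h : D1.testBit j = true) : ∃ g ∈ H, phi g q550 = j := by
  have h' := orbit_ok
  simp only [Bool.and_eq_true] at h'
  obtain ⟨g, hg, e⟩ := grow_one (p := q550) (gen_nets _) (sub_of_land h'.1.1.1.1.1.1.1.1.2 h)
  exact ⟨g, gen_H ▸ hg, e⟩

theorem D0_q1 : D0.testBit q1 = true := by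
  have h := orbit_ok
  simp only [Bool.and_eq_true] at h
  exact h.1.2

theorem D1_q550 : D1.testBit q550 = true := by
  have h := orbit_ok
  simp only [Bool.and_eq_true] at h
  exact h.2

theorem D0_not_p0 {j : Pt} (h : D0.testBit j = true) : j ≠ p0 := by
  rintro rfl
  have h' := orbit_ok
  simp only [Bool.and_eq_true, Bool.not_eq_true'] at h'
  rw [show D0.testBit ((p0 : Pt) : ℕ) = false from h'.1.1.1.2] at h
  exact absurd h (by decide)

theorem D1_not {j : Pt} (h : D1.testBit j = true) : j ≠ p0 ∧ D0.testBit j = false := by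
  have h' := orbit_ok
  simp only [Bool.and_eq_true, Bool.not_eq_true'] at h'
  refine ⟨?_, ?_⟩
  · rintro rfl
    rw [show D1.testBit ((p0 : Pt) : ℕ) = false from h'.1.1.2] at h
    exact absurd h (by decide)
  · have e := congrArg (fun n => n.testBit j) (Nat.eq_of_beq_eq_true h'.1.1.1.1.2)
    simpa [land_eq, Nat.testBit_and, h] using e

theorem trichotomy (j : Pt) : j = p0 ∨ D0.testBit j = true ∨ D1.testBit j = true := by
  have h' := orbit_ok
  simp only [Bool.and_eq_true] at h'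
  have e := congrArg (fun n => n.testBit j) (Nat.eq_of_beq_eq_true h'.1.1.1.1.1.2)
  simp only [lor_eq, Nat.testBit_or, testBit_all, Bool.or_eq_true] at e
  rcases e with e | e | e
  · refine Or.inl (Fin.ext ?_)
    rw [show (1 : ℕ) = one1 0 from rfl, testBit_one1, decide_eq_true_eq] at e
    exact e
  · exact Or.inr (Or.inl e)
  · exact Or.inr (Or.inr e)

theorem card_stab_of {p : Pt} {M n : ℕ} (hinv : ∀ g ∈ H, ∀ j : Pt, M.testBit (phi g j) = M.testBit j)
    (hp : M.testBit p = true) (ht : ∀ j : Pt, M.testBit j = true → ∃ g ∈ H, phi g p = j)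
    (hn : Nat.beq (bitCount M 4060) n = true) :
    n * Nat.card (H ⊓ St p : Subgroup R0) = 35942400 :=
  ((card_of_orbit (K := H) (p := p) (fun g hg => (hinv g hg p).trans hp) ht (Nat.eq_of_beq_eq_true hn)).symm).trans
    card_H

theorem card_stab_D0 {p : Pt} (hp : D0.testBit p = true) : Nat.card (H ⊓ St p : Subgroup R0) = 15600 := by
  obtain ⟨a, ha, rfl⟩ := D0_trans hp
  have h := orbit_ok
  simp only [Bool.and_eq_true] at h
  have := card_stab_of (fun g hg j => D0_inv hg j) hp (fun j hj => by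
    obtain ⟨b, hb, rfl⟩ := D0_trans hj
    exact ⟨b * a⁻¹, H.mul_mem hb (H.inv_mem ha), by
      rw [map_mul, map_inv, Equiv.Perm.mul_apply, Equiv.Perm.inv_def, Equiv.symm_apply_apply]⟩) h.1.1.1.1.1.1.1.2
  omega

theorem card_stab_D1 {p : Pt} (hp : D1.testBit p = true) : Nat.card (H ⊓ St p : Subgroup R0) = 20480 := by
  obtain ⟨a, ha, rfl⟩ := D1_trans hp
  have h := orbit_ok
  simp only [Bool.and_eq_true] at h
  have := card_stab_of (fun g hg j => D1_inv hg j) hp (fun j hj => by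
    obtain ⟨b, hb, rfl⟩ := D1_trans hj
    exact ⟨b * a⁻¹, H.mul_mem hb (H.inv_mem ha), by
      rw [map_mul, map_inv, Equiv.Perm.mul_apply, Equiv.Perm.inv_def, Equiv.symm_apply_apply]⟩) h.1.1.1.1.1.1.2
  omega

theorem C3_eq : C3 = H ⊓ St q1 := by
  have := finite_R0
  exact Subgroup.eq_of_le_of_card_ge C3_le ((card_stab_D0 D0_q1).trans_le card_C3_ge)

theorem card_C3 : Nat.card C3 = 15600 := by rw [C3_eq, card_stab_D0 D0_q1]

/-! ### The normaliser of the element of order 13 -/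

theorem conj_pow_y {g : R0} {r : ℕ} (h : g * el 0 = el 0 ^ r * g) (i : ℕ) :
    g * el 0 ^ i = el 0 ^ (r * i) * g := by
  induction i with
  | zero => simp
  | succ i ih =>
    rw [pow_succ, ← mul_assoc, ih, mul_assoc, h, ← mul_assoc, ← pow_add]
    congr 2

/-- the elements normalising the group of order 13 -/
noncomputable def NY : Subgroup R0 where
  carrier := {x | ∃ r : ℕ, x * el 0 = el 0 ^ r * x}
  one_mem' := ⟨1, by simp⟩
  mul_mem' := fun {a b} ⟨r, hr⟩ ⟨s, hs⟩ => ⟨r * s, by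
    rw [mul_assoc, hs, ← mul_assoc, conj_pow_y hr, mul_assoc]⟩
  inv_mem' := fun {a} ⟨r, hr⟩ => by
    have := finite_R0
    have hp : ∀ n : ℕ, ∃ s : ℕ, a ^ n * el 0 = el 0 ^ s * a ^ n := fun n => by
      induction n with
      | zero => exact ⟨1, by simp⟩
      | succ n ih =>
        obtain ⟨s, hs⟩ := ih
        exact ⟨r * s, by rw [pow_succ', mul_assoc, hs, ← mul_assoc, conj_pow_y hr, mul_assoc]⟩
    have e : a⁻¹ = a ^ (orderOf a - 1) := inv_eq_of_mul_eq_one_right (by
      rw [← pow_succ', Nat.sub_add_cancel (orderOf_pos a), pow_orderOf_eq_one])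
    show ∃ s, a⁻¹ * el 0 = el 0 ^ s * a⁻¹
    rw [e]
    exact hp _

theorem mem_NY {x : R0} : x ∈ NY ↔ ∃ r : ℕ, x * el 0 = el 0 ^ r * x := Iff.rfl

theorem el0_NY : el 0 ∈ NY := ⟨1, by rw [pow_one]⟩
theorem el1_NY : el 1 ∈ NY := ⟨5, h_y⟩
theorem el2_NY : el 2 ∈ NY := ⟨9, w_y⟩

theorem N52_le_NY : N52 ≤ NY := gen_le fun k hk => by
  simp only [List.mem_cons, List.not_mem_nil, or_false] at hk
  rcases hk with rfl | rfl
  exacts [el0_NY, el1_NY]

/-- the number of conjugates of the group of order 13 -/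
theorem sylow_count {J : Subgroup R0} (hc : Nat.card J = 15600) (hy : el 0 ∈ J) :
    ∃ n, (n = 1 ∨ n = 40 ∨ n = 300) ∧ Nat.card (J ⊓ NY : Subgroup R0) * n = 15600 := by
  have := finite_R0
  have : Fact (Nat.Prime 13) := ⟨by norm_num⟩
  let t : J := ⟨el 0, hy⟩
  have ht : orderOf t = 13 := (Subgroup.orderOf_coe t).symm.trans orderOf_y
  have hp : IsPGroup 13 (Subgroup.zpowers t) :=
    IsPGroup.of_card (n := 1) (by rw [Nat.card_zpowers, ht, pow_one])
  obtain ⟨P, hP⟩ := hp.exists_le_sylow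
  have hPe : (P : Subgroup J) = Subgroup.zpowers t := by
    refine (Subgroup.eq_of_le_of_card_ge hP ?_).symm
    rw [Nat.card_zpowers, ht, P.card_eq_multiplicity, hc]
    have : (15600 : ℕ).factorization 13 ≤ 1 := by
      by_contra h
      have := (Nat.Prime.pow_dvd_iff_le_factorization (by norm_num : Nat.Prime 13) (by norm_num : 15600 ≠ 0)).2
        (show 2 ≤ _ by omega)
      norm_num at this
    exact (Nat.pow_le_pow_right (by norm_num) this).trans_eq (pow_one 13)
  have hN : Subgroup.normalizer ((P : Subgroup J) : Set J) = (J ⊓ NY).subgroupOf J := by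
    ext g
    rw [hPe, Subgroup.mem_subgroupOf, Subgroup.mem_inf, Subgroup.mem_normalizer_iff]
    constructor
    · intro hg
      refine ⟨g.2, ?_⟩
      have h1 := (hg t).1 (Subgroup.mem_zpowers t)
      rw [← mem_powers_iff_mem_zpowers, Submonoid.mem_powers_iff] at h1
      obtain ⟨i, hi⟩ := h1
      refine mem_NY.2 ⟨i, ?_⟩
      have := congrArg Subtype.val hi
      simp only [SubgroupClass.coe_pow, Subgroup.coe_mul, Subgroup.coe_inv, t] at this
      rw [this, inv_mul_cancel_right]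
    · rintro ⟨-, hg⟩
      have key : ∀ z : J, (z : R0) ∈ NY → ∀ s ∈ Subgroup.zpowers t, z * s * z⁻¹ ∈ Subgroup.zpowers t := by
        intro z hz s hs
        rw [← mem_powers_iff_mem_zpowers, Submonoid.mem_powers_iff] at hs ⊢
        obtain ⟨i, rfl⟩ := hs
        obtain ⟨r, hr⟩ := mem_NY.1 hz
        refine ⟨r * i, Subtype.ext ?_⟩
        simp only [SubgroupClass.coe_pow, Subgroup.coe_mul, Subgroup.coe_inv, t]
        rw [conj_pow_y hr, mul_inv_cancel_right]
      intro s
      refine ⟨key g hg s, fun h => ?_⟩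
      have := key g⁻¹ (NY.inv_mem hg) _ h
      simpa [mul_assoc] using this
  have hn1 := card_sylow_modEq_one 13 (G := J)
  have hn2 := P.card_eq_index_normalizer
  rw [show Subgroup.normalizer (P : Set J) = (J ⊓ NY).subgroupOf J from hN] at hn2
  have hmul := ((J ⊓ NY).subgroupOf J).card_mul_index
  rw [← hn2, hc, Nat.card_congr (Subgroup.subgroupOfEquivOfLe (inf_le_left : J ⊓ NY ≤ J)).toEquiv] at hmul
  refine ⟨_, ?_, hmul⟩
  have h13 : 13 ∣ Nat.card (J ⊓ NY : Subgroup R0) := by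
    have := Subgroup.orderOf_dvd_natCard (J ⊓ NY) (Subgroup.mem_inf.2 ⟨hy, el0_NY⟩)
    rwa [orderOf_y] at this
  obtain ⟨m, hm⟩ := h13
  set n := Nat.card (Sylow 13 J)
  have hdvd : n ∣ 1200 := ⟨m, by rw [hm] at hmul; rw [mul_comm n m]; rw [mul_assoc] at hmul; omega⟩
  have hle : n < 1201 := Nat.lt_succ_of_le (Nat.le_of_dvd (by norm_num) hdvd)
  have key : (List.range 1201).all (fun n => !(Nat.beq (n % 13) 1 && Nat.beq (1200 % n) 0) ||
      Nat.beq n 1 || Nat.beq n 40 || Nat.beq n 300) = true := by decide +kernel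
  have hk := List.all_eq_true.1 key n (List.mem_range.2 hle)
  have e1 : n % 13 = 1 := hn1
  rw [e1, Nat.mod_eq_zero_of_dvd hdvd] at hk
  simp only [Nat.beq_refl, Bool.and_self, Bool.not_true, Bool.false_or, Bool.or_eq_true, Nat.beq_eq] at hk
  rcases hk with (h | h) | h
  · exact Or.inl h
  · exact Or.inr (Or.inl h)
  · exact Or.inr (Or.inr h)

theorem N52_eq : C3 ⊓ NY = N52 ∧ Nat.card N52 = 52 := by
  have := finite_R0
  have hle : N52 ≤ C3 ⊓ NY := le_inf N52_le_C3 N52_le_NY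
  obtain ⟨n, hn, hc⟩ := sylow_count card_C3 (el_mem_gen (by decide))
  have hd := card_N52_dvd.trans (Subgroup.card_dvd_of_le hle)
  have h52 : 52 ≤ Nat.card N52 := Nat.le_of_dvd Nat.card_pos card_N52_dvd
  have hle' := Subgroup.card_le_of_le hle
  rcases hn with rfl | rfl | rfl
  · exfalso
    have hin : C3 ⊓ NY = C3 := Subgroup.eq_of_le_of_card_ge inf_le_left (by rw [card_C3]; omega)
    obtain ⟨r, hr⟩ := mem_NY.1 (hin.ge (el_mem_gen (k := 4) (by decide))).2
    have h := y_rels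
    simp only [Bool.and_eq_true, List.all_eq_true (l := List.range 13), List.mem_range, Bool.not_eq_true'] at h
    have hs := NetOf.same (π := phi (el 4 * el 0)) (by rw [map_mul]; exact (net_el 4).mul (net_el 0))
      (l' := netPow (netEl 0) (r % 13) ++ netEl 4)
      (by rw [hr, ← pow_y_mod, map_mul, map_pow]; exact ((net_el 0).pow _).mul (net_el 4))
    rw [h.1.1.1.1.2 (r % 13) (Nat.mod_lt _ (by norm_num))] at hs
    exact absurd hs (by decide)
  · exfalso
    obtain ⟨m, hm⟩ := hd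
    omega
  · exact ⟨(Subgroup.eq_of_le_of_card_ge hle (by omega)).symm, by omega⟩

theorem y_h (i : ℕ) : el 0 ^ i * el 1 = el 1 * el 0 ^ (8 * i) := by
  rw [conj_pow_y h_y, ← pow_y_mod, ← pow_y_mod (5 * _)]
  congr 2
  omega

theorem y_h_pow (i : ℕ) : ∀ a : ℕ, el 0 ^ i * el 1 ^ a = el 1 ^ a * el 0 ^ (8 ^ a * i)
  | 0 => by simp
  | a + 1 => by rw [pow_succ, ← mul_assoc, y_h_pow i a, mul_assoc, y_h, ← mul_assoc, pow_succ, mul_comm (8 ^ a) 8, mul_assoc 8]

theorem N52_form {x : R0} (hx : x ∈ N52) : ∃ l i : ℕ, l < 4 ∧ i < 13 ∧ x = el 1 ^ l * el 0 ^ i := by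
  have hh : ∀ l : ℕ, el 1 ^ (l % 4) = el 1 ^ l := fun l => by
    conv_rhs => rw [← Nat.mod_add_div l 4, pow_add, pow_mul, h_four, one_pow, mul_one]
  obtain ⟨l, i, rfl⟩ : ∃ l i : ℕ, x = el 1 ^ l * el 0 ^ i := by
    refine closure_pred (P := fun x => ∃ l i : ℕ, x = el 1 ^ l * el 0 ^ i) ⟨0, 0, by simp⟩ ?_ ?_ hx
    · rintro _ _ ⟨l, i, rfl⟩ ⟨a, b, rfl⟩
      refine ⟨l + a, 8 ^ a * i + b, ?_⟩
      rw [mul_assoc (el 1 ^ l), ← mul_assoc (el 0 ^ i), y_h_pow, pow_add, pow_add]
      simp only [mul_assoc]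
    · rintro _ ⟨k, hk, rfl⟩
      simp only [Set.mem_setOf_eq, List.mem_cons, List.not_mem_nil, or_false] at hk
      rcases hk with rfl | rfl
      exacts [⟨0, 1, by simp⟩, ⟨1, 0, by simp⟩]
  exact ⟨l % 4, i % 13, Nat.mod_lt _ (by norm_num), Nat.mod_lt _ (by norm_num), by rw [hh, pow_y_mod]⟩

theorem pow_mem_N52 (l i : ℕ) : el 1 ^ l * el 0 ^ i ∈ N52 :=
  N52.mul_mem (N52.pow_mem (el_mem_gen (by decide)) l) (N52.pow_mem (el_mem_gen (by decide)) i)

theorem fix_of_pow {π : Pm} {r : ℕ} (h : r % 13 ≠ 0) (hπ : π ^ 13 = 1) {q : Pt} (hq : (π ^ r) q = q) : π q = q := by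
  have hs : ∀ a < 13, a ≠ 0 → ∃ s < 13, a * s % 13 = 1 := by decide
  obtain ⟨s, -, hs⟩ := hs (r % 13) (Nat.mod_lt _ (by norm_num)) h
  have e : (π ^ r) ^ s = π := by
    rw [← pow_mul, ← Nat.mod_add_div (r * s) 13, pow_add, pow_mul π 13, hπ, one_pow, mul_one,
      Nat.mul_mod, ← Nat.mod_mod r, ← Nat.mul_mod, hs, pow_one]
  rw [← e]
  exact Equiv.Perm.pow_apply_eq_self_of_apply_eq_self hq s

theorem y_fix {q : Pt} (hq : D0.testBit q = true) (h : phi (el 0) q = q) : q = q1 ∨ q = qP1 ∨ q = qP2 := by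
  have hp := y_rels
  simp only [Bool.and_eq_true] at hp
  have hb : (Nat.land (fixMask (netEl 0)) D0).testBit q = true := by
    rw [land_eq, Nat.testBit_and, (fixMask_spec (net_el 0) q).2 h, hq]
    rfl
  rw [Nat.eq_of_beq_eq_true hp.2] at hb
  simp only [lor_eq, Nat.testBit_or, Bool.or_eq_true, testBit_one1, decide_eq_true_eq] at hb
  rcases hb with e | e | e
  exacts [Or.inl (Fin.ext e), Or.inr (Or.inl (Fin.ext e)), Or.inr (Or.inr (Fin.ext e))]

theorem y_fixes : phi (el 0) q1 = q1 ∧ phi (el 1) q1 = q1 ∧ phi (el 4) q1 = q1 := by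
  have h := fun k hk => (C3_le (el_mem_gen (ks := [0, 1, 4]) (k := k) hk)).2
  exact ⟨h 0 (by decide), h 1 (by decide), h 4 (by decide)⟩

/-- The normaliser inside the point stabiliser. -/
theorem NY_form {x : R0} (hx : x ∈ H) (hn : x ∈ NY) :
    ∃ j l i : ℕ, j < 3 ∧ l < 4 ∧ i < 13 ∧ x = el 2 ^ j * (el 1 ^ l * el 0 ^ i) := by
  obtain ⟨r, hr⟩ := mem_NY.1 hn
  have hr0 : r % 13 ≠ 0 := fun h0 => by
    rw [← pow_y_mod, h0, pow_zero, one_mul] at hr
    have h1 : el 0 = 1 := mul_eq_left.1 hr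
    have := orderOf_y
    rw [h1, orderOf_one] at this
    omega
  have hq : (phi (el 0) ^ r) (phi x q1) = phi x q1 := by
    rw [← map_pow, ← Equiv.Perm.mul_apply, ← map_mul, ← hr, map_mul, Equiv.Perm.mul_apply, y_fixes.1]
  have hfix := fix_of_pow hr0 (by rw [← map_pow, y_thirteen, map_one]) hq
  obtain ⟨j, hj, ej⟩ : ∃ j < 3, phi (el 2 ^ j) q1 = phi x q1 := by
    rcases y_fix (by rw [D0_inv hx]; exact D0_q1) hfix with e | e | e
    · exact ⟨0, by norm_num, by rw [pow_zero, map_one, e]; rfl⟩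
    · exact ⟨1, by norm_num, by rw [pow_one, w_pts.1, e]⟩
    · exact ⟨2, by norm_num, by rw [w_sq_q1, e]⟩
  have hmem : (el 2 ^ j)⁻¹ * x ∈ C3 ⊓ NY := by
    refine ⟨?_, NY.mul_mem (NY.inv_mem (NY.pow_mem el2_NY j)) hn⟩
    rw [C3_eq]
    refine ⟨H.mul_mem (H.inv_mem (H.pow_mem (el_mem_H (by decide)) j)) hx, mem_St.2 ?_⟩
    rw [map_mul, map_inv, Equiv.Perm.mul_apply, ← ej, Equiv.Perm.inv_def, Equiv.symm_apply_apply]
  rw [N52_eq.1] at hmem
  obtain ⟨l, i, hl, hi, e⟩ := N52_form hmem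
  exact ⟨j, l, i, hj, hl, hi, by rw [← e, mul_inv_cancel_left]⟩

end CfsgLib.RuRankThree
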