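import Cfsg.Agent.Lib.Presented.Vec
import Cfsg.Agent.Lib.Presented.Word
import Cfsg.Agent.Lib.Presented.Orbit
import Cfsg.Agent.Lib.Sporadic.MatF2

/-!
Permutations of 4060 points by networks, and linear maps seen through bit slices of vectors.
-/
set_option autoImplicit false
set_option maxRecDepth 8000

namespace CfsgLib.RuRankThree

open CfsgLib.Presented CfsgLib.Presented.Vec

/-- the points -/
abbrev Pt := Fin 4060

/-- their permutations -/
abbrev Pm := Equiv.Perm Pt

theorem pt_lt (i : Pt) : (i : ℕ) < 2 ^ 12 := lt_trans i.2 (by norm_num)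

theorem land_eq (a b : ℕ) : Nat.land a b = a &&& b := rfl
theorem lor_eq (a b : ℕ) : Nat.lor a b = a ||| b := rfl
theorem xor_eq (a b : ℕ) : Nat.xor a b = a ^^^ b := rfl

/-- the network realises the permutation -/
structure NetOf (l : List Stage) (π : Pm) : Prop where
  ok : netOk l = true
  val : ∀ i : Pt, netPerm l i = (π i : ℕ)

theorem NetOf.one : NetOf [] 1 := ⟨rfl, fun i => by simp [netPerm]⟩

theorem NetOf.mul {l l' : List Stage} {π π' : Pm} (h : NetOf l π) (h' : NetOf l' π') :
    NetOf (l ++ l') (π * π') :=
  ⟨by rw [netOk, List.all_append, Bool.and_eq_true]; exact ⟨h.ok, h'.ok⟩,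
    fun i => by rw [netPerm_append, Equiv.Perm.mul_apply, h'.val, h.val, Equiv.Perm.mul_apply]⟩

theorem netPerm_reverse : ∀ l : List Stage, netPerm l.reverse = (netPerm l)⁻¹
  | [] => by simp [netPerm]
  | s :: l => by
    have hs : s.perm⁻¹ = s.perm := inv_eq_of_mul_eq_one_right (Equiv.ext fun i => s.swp_involutive i)
    rw [List.reverse_cons, netPerm_append, netPerm_reverse l]
    simp [netPerm, hs]

theorem NetOf.rev {l : List Stage} {π : Pm} (h : NetOf l π) : NetOf l.reverse π⁻¹ := by
  refine ⟨?_, fun i => ?_⟩
  · have := h.ok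
    simp only [netOk, List.all_eq_true, List.mem_reverse] at this ⊢
    exact this
  · rw [netPerm_reverse]
    refine (Equiv.symm_apply_eq _).2 ?_
    rw [h.val]
    exact congrArg Fin.val (π.apply_symm_apply i).symm

/-- repeat a network -/
def netPow (l : List Stage) : ℕ → List Stage
  | 0 => []
  | k + 1 => l ++ netPow l k

theorem NetOf.pow {l : List Stage} {π : Pm} (h : NetOf l π) : ∀ k, NetOf (netPow l k) (π ^ k)
  | 0 => by rw [pow_zero]; exact NetOf.one
  | k + 1 => by rw [pow_succ']; exact h.mul (h.pow k)

theorem NetOf.bit {l : List Stage} {π : Pm} (h : NetOf l π) (v : ℕ) (j : Pt) :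
    (applyNet l v).testBit j = v.testBit (π j) := by
  rw [testBit_applyNet h.ok, h.val]

theorem testBit_all (j : Pt) : (ones 4060).testBit j = true := by
  rw [testBit_ones]
  exact decide_eq_true j.2

/-- a single bit -/
def one1 (p : ℕ) : ℕ := Nat.shiftLeft 1 p

theorem testBit_one1 (p j : ℕ) : (one1 p).testBit j = decide (j = p) := by
  show (1 <<< p).testBit j = _
  rw [Nat.shiftLeft_eq, one_mul, Nat.testBit_two_pow]
  exact decide_eq_decide.2 eq_comm

/-- the network takes `y` to `x` -/
noncomputable def sendsB (l : List Stage) (y x : ℕ) : Bool := Nat.beq (applyNet l (one1 x)) (one1 y)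

theorem NetOf.sends {l : List Stage} {π : Pm} (h : NetOf l π) {y x : Pt}
    (hb : sendsB l y x = true) : π y = x := by
  have hb' : applyNet l (one1 x) = one1 y := Nat.eq_of_beq_eq_true hb
  have := h.bit (one1 x) y
  rw [hb', testBit_one1, testBit_one1, decide_eq_decide] at this
  exact Fin.ext (this.1 rfl)

/-- the network moves `p` -/
noncomputable def movesB (l : List Stage) (p : ℕ) : Bool := !((applyNet l (one1 p)).testBit p)

theorem NetOf.moves {l : List Stage} {π : Pm} (h : NetOf l π) {p : Pt} (hb : movesB l p = true) : π p ≠ p := by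
  intro e
  rw [movesB, Bool.not_eq_true', h.bit, e, testBit_one1, decide_eq_false_iff_not] at hb
  exact hb rfl

/-- the two networks agree on the points -/
noncomputable def sameNet (l l' : List Stage) : Bool :=
  (slices 12).all fun s => agreeOn 4060 (applyNet l s) (applyNet l' s)

theorem NetOf.eq_of_same {l l' : List Stage} {π π' : Pm} (h : NetOf l π) (h' : NetOf l' π')
    (hs : sameNet l l' = true) : π = π' := by
  refine Equiv.ext fun i => Fin.ext ?_
  refine eq_of_slices (pt_lt (π i)) (pt_lt (π' i)) fun s hsm => ?_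
  simp only [sameNet, List.all_eq_true] at hs
  rw [← h.bit s i, ← h'.bit s i]
  exact agreeOn_spec (hs s hsm) i.2

theorem NetOf.same {l l' : List Stage} {π : Pm} (h : NetOf l π) (h' : NetOf l' π) : sameNet l l' = true := by
  rw [sameNet, List.all_eq_true]
  intro s _
  show Nat.beq _ _ = true
  rw [Nat.beq_eq]
  refine Nat.eq_of_testBit_eq fun i => ?_
  simp only [land_eq, Nat.testBit_and, testBit_ones]
  rcases lt_or_ge i 4060 with hi | hi
  · rw [show i = ((⟨i, hi⟩ : Pt) : ℕ) from rfl, h.bit, h'.bit]
  · simp [not_lt.2 hi]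

/-- the network is well formed and keeps the points -/
noncomputable def netOKN (l : List Stage) : Bool :=
  netOk l && Nat.beq (applyNet l (ones 4060)) (ones 4060)

theorem netOKN_lt {l : List Stage} (h : netOKN l = true) {i : ℕ} (hi : i < 4060) : netPerm l i < 4060 := by
  simp only [netOKN, Bool.and_eq_true] at h
  have := testBit_applyNet h.1 (ones 4060) i
  rw [Nat.eq_of_beq_eq_true h.2, testBit_ones, testBit_ones, decide_eq_decide] at this
  exact this.1 hi

/-- the permutation of a checked network -/
noncomputable def netToPerm (l : List Stage) (h : netOKN l = true) : Pm :=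
  Equiv.ofBijective (fun i => ⟨netPerm l i, netOKN_lt h i.2⟩)
    (Finite.injective_iff_bijective.1 fun i j e => Fin.ext ((netPerm l).injective (congrArg Fin.val e)))

theorem netToPerm_net (l : List Stage) (h : netOKN l = true) : NetOf l (netToPerm l h) := by
  refine ⟨?_, fun i => rfl⟩
  simp only [netOKN, Bool.and_eq_true] at h
  exact h.1

/-- a shorter network for a permutation realised by another one -/
theorem NetOf.of_same {l l' : List Stage} {π : Pm} (h : NetOf l π)
    (hs : (netOKN l' && sameNet l l') = true) : NetOf l' π := by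
  simp only [Bool.and_eq_true] at hs
  have h' := netToPerm_net l' hs.1
  rwa [← h.eq_of_same h' hs.2] at h'

theorem map_evW {Γ Δ : Type*} [Group Γ] [Group Δ] (f : Γ →* Δ) (e : ℕ → Γ) (w : List ℕ) :
    f (evW e w) = evW (fun x => f (e x)) w := by
  simp [evW, map_list_prod, List.map_map, Function.comp_def]

theorem NetOf.flatMap {nets : ℕ → List Stage} {els : ℕ → Pm} (h : ∀ x, NetOf (nets x) (els x)) :
    ∀ w : List ℕ, NetOf (w.flatMap nets) (evW els w)
  | [] => NetOf.one
  | x :: w => by
    rw [List.flatMap_cons, evW_cons]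
    exact (h x).mul (NetOf.flatMap h w)

/-- the positions where the slices agree with their images -/
noncomputable def fixAux (l : List Stage) : List ℕ → ℕ
  | [] => ones 4060
  | s :: ss => Nat.land (fixAux l ss) (Nat.xor (ones 4060) (Nat.land (Nat.xor (applyNet l s) s) (ones 4060)))

/-- the fixed points of a network -/
noncomputable def fixMask (l : List Stage) : ℕ := fixAux l (slices 12)

theorem fixAux_spec {l : List Stage} {π : Pm} (h : NetOf l π) (j : Pt) : ∀ ss : List ℕ,
    (fixAux l ss).testBit j = true ↔ ∀ s ∈ ss, s.testBit (π j) = s.testBit j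
  | [] => ⟨fun _ s hs => absurd hs List.not_mem_nil, fun _ => testBit_all j⟩
  | s :: ss => by
    show (fixAux l ss &&& (ones 4060 ^^^ ((applyNet l s ^^^ s) &&& ones 4060))).testBit j = true ↔ _
    rw [Nat.testBit_and, Bool.and_eq_true, fixAux_spec h j ss, List.forall_mem_cons, and_comm]
    simp only [Nat.testBit_xor, Nat.testBit_and, testBit_all, Bool.and_true, h.bit]
    cases s.testBit (π j) <;> cases s.testBit j <;> simp

theorem fixMask_spec {l : List Stage} {π : Pm} (h : NetOf l π) (j : Pt) :
    (fixMask l).testBit j = true ↔ π j = j := by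
  rw [fixMask, fixAux_spec h]
  exact ⟨fun hs => Fin.ext (eq_of_slices (pt_lt _) (pt_lt _) hs), fun e s _ => by rw [e]⟩

theorem sub_of_land {a b : ℕ} (h : Nat.beq (Nat.land a b) b = true) {j : ℕ} (hj : b.testBit j = true) :
    a.testBit j = true := by
  have := congrArg (fun x => x.testBit j) (Nat.eq_of_beq_eq_true h)
  rw [land_eq] at this
  simpa [Nat.testBit_and, hj] using this

theorem foldr_lor_bit {α : Type*} (f : α → ℕ) {j : ℕ} : ∀ {l : List α},
    (l.foldr (fun r S => Nat.lor (f r) S) 0).testBit j = true → ∃ r ∈ l, (f r).testBit j = true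
  | [], h => by simp at h
  | r :: l, h => by
    rw [List.foldr_cons, lor_eq, Nat.testBit_or, Bool.or_eq_true] at h
    rcases h with h | h
    · exact ⟨r, List.mem_cons_self, h⟩
    · obtain ⟨s, hs, h⟩ := foldr_lor_bit f h
      exact ⟨s, List.mem_cons_of_mem r hs, h⟩

/-! ### Linear maps through slices -/

open CfsgLib.Sporadic

/-- coordinate `b` of vector `i` -/
noncomputable def coord (B : List ℕ) (i b : ℕ) : ZMod 2 := (((B.getD b 0).testBit i).toNat : ZMod 2)

/-- a sum of selected slices -/
noncomputable def combo (B : List ℕ) (n : ℕ) (f : ℕ → Bool) : ℕ :=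
  xorUpto (fun k => cond (f k) (B.getD k 0) 0) n

theorem combo_spec (B : List ℕ) (n : ℕ) (f : ℕ → Bool) (i : ℕ) :
    (((combo B n f).testBit i).toNat : ZMod 2) =
      ∑ k ∈ Finset.range n, (cond (f k) 1 0 : ZMod 2) * coord B i k := by
  rw [combo, testBit_xorUpto]
  refine Finset.sum_congr rfl fun k _ => ?_
  cases f k <;> simp [coord]

/-- the image of the slices under a matrix given by its rows -/
noncomputable def applyRows (B : List ℕ) (n : ℕ) (f : ℕ → ℕ → Bool) : List ℕ :=
  (List.range n).map fun b => combo B n (f b)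

theorem coord_applyRows (B : List ℕ) {n : ℕ} (f : ℕ → ℕ → Bool) (i : ℕ) {b : ℕ} (hb : b < n) :
    coord (applyRows B n f) i b = ∑ k ∈ Finset.range n, (cond (f b k) 1 0 : ZMod 2) * coord B i k := by
  rw [← combo_spec, coord, applyRows, List.getD_eq_getElem _ _ (by simpa using hb), List.getElem_map,
    List.getElem_range]

/-- the network moves the slices `B` onto the slices `B'` -/
noncomputable def moveB (l : List Stage) (B B' : List ℕ) (n : ℕ) : Bool :=
  (List.range n).all fun b => agreeOn 4060 (applyNet l (B.getD b 0)) (B'.getD b 0)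

theorem coord_move {l : List Stage} {π : Pm} (h : NetOf l π) {B B' : List ℕ} {n : ℕ}
    (hm : moveB l B B' n = true) (i : Pt) {b : ℕ} (hb : b < n) : coord B (π i) b = coord B' i b := by
  have := agreeOn_spec (List.all_eq_true.1 hm b (List.mem_range.2 hb)) i.2
  rw [h.bit] at this
  rw [coord, coord, this]

end CfsgLib.RuRankThree
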