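import Cfsg.Agent.Lib.RuRankThree.Config

/-!
The exchanging element acts on the two-point stabiliser like the one of the Rudvalis group.
-/
set_option autoImplicit false
set_option maxRecDepth 8000
set_option Elab.async false

namespace CfsgLib.RuRankThree

open CfsgLib.Presented CfsgLib.Presented.Vec

attribute [local irreducible] bitCount grow applyNet el

theorem e_not_NY : el 4 ∉ NY := by
  intro hn
  obtain ⟨r, hr⟩ := mem_NY.1 hn
  have h := y_rels
  simp only [Bool.and_eq_true, List.all_eq_true (l := List.range 13), List.mem_range, Bool.not_eq_true'] at h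
  have hs := NetOf.same (π := phi (el 4 * el 0)) (by rw [map_mul]; exact (net_el 4).mul (net_el 0))
    (l' := netPow (netEl 0) (r % 13) ++ netEl 4)
    (by rw [hr, ← pow_y_mod, map_mul, map_pow]; exact ((net_el 0).pow _).mul (net_el 4))
  rw [h.1.1.1.1.2 (r % 13) (Nat.mod_lt _ (by norm_num))] at hs
  exact absurd hs (by decide)

theorem y_M {l i : ℕ} : el 0 * (el 1 ^ l * el 0 ^ i) = el 1 ^ l * el 0 ^ i * el 0 ^ (8 ^ l % 13) := by
  rw [pow_y_mod, mul_assoc (el 1 ^ l), ← pow_add, add_comm i, pow_add, ← mul_assoc, ← mul_assoc]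
  refine congrArg (· * el 0 ^ i) ?_
  simpa using y_h_pow 1 l

theorem h_M {l i : ℕ} : el 1 * (el 1 ^ l * el 0 ^ i) = el 1 ^ l * el 0 ^ i * (el 1 * el 0 ^ (6 * i % 13)) := by
  rw [pow_y_mod, mul_assoc (el 1 ^ l), ← mul_assoc (el 0 ^ i), y_h, mul_assoc (el 1), ← pow_add,
    ← pow_y_mod (8 * i + 6 * i), show (8 * i + 6 * i) % 13 = i % 13 by omega, pow_y_mod, ← mul_assoc, ← pow_succ',
    pow_succ, mul_assoc]

/-- the letters -/
noncomputable def letters (z : R0) (x : ℕ) : R0 := [el 0, el 1, z].getD x 1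

theorem net_letters (x : ℕ) : NetOf ([netEl 0, netEl 1, netEl 4].getD x []) (phi (letters (el 4) x)) := by
  rcases x with _ | _ | _ | x
  exacts [net_el 0, net_el 1, net_el 4, by simpa [letters] using NetOf.one]

/-- a third generator other than the two admissible ones breaks a relation -/
theorem survivors {z : R0} {k l i : ℕ} (hk : k < 9) (hl : l < 4) (hi : i < 13)
    (e : z = el 1 ^ l * el 0 ^ i * (el (4 + k) * (el 1 ^ l * el 0 ^ i)⁻¹))
    (hrel : ∀ r ∈ relsJ, (evW (letters z) r.1) ^ r.2 = 1) :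
    (k = 0 ∧ l = 0 ∧ i = 0) ∨ (k = 0 ∧ l = 2 ∧ i = 5) := by
  have ht := wit_ok (t := idx3 k l i) (by unfold idx3; omega)
  rw [witOK] at ht
  cases h99 : Nat.beq (relWit.getD (idx3 k l i) (0, 0)).1 99
  · exfalso
    rw [h99, cond_false] at ht
    simp only [Bool.and_eq_true, Nat.blt_eq] at ht
    obtain ⟨⟨hri, hp⟩, hmv⟩ := ht
    set r := relsJ.getD (relWit.getD (idx3 k l i) (0, 0)).1 ([], 0) with hr
    have hrm : r ∈ relsJ := by rw [hr, List.getD_eq_getElem _ _ hri]; exact List.getElem_mem hri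
    rw [show idx3 k l i / 52 = k by unfold idx3; omega, show idx3 k l i % 52 / 13 = l by unfold idx3; omega,
      show idx3 k l i % 13 = i by unfold idx3; omega] at hmv
    let M := el 1 ^ l * el 0 ^ i
    let X : ℕ → R0 := fun x => M⁻¹ * letters z x * M
    have hX : ∀ x, NetOf (relNet k l i x) (phi (X x)) := by
      rintro (_ | _ | _ | x)
      · show NetOf _ (phi (M⁻¹ * el 0 * M))
        rw [mul_assoc, y_M, inv_mul_cancel_left]
        exact net_Y (Nat.mod_lt _ (by norm_num))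
      · show NetOf _ (phi (M⁻¹ * el 1 * M))
        rw [mul_assoc, h_M, inv_mul_cancel_left, map_mul]
        exact (net_el 1).mul (net_Y (Nat.mod_lt _ (by norm_num)))
      · show NetOf _ (phi (M⁻¹ * z * M))
        rw [e, show M⁻¹ * (M * (el (4 + k) * M⁻¹)) * M = el (4 + k) by group]
        exact net_el _
      · show NetOf [] (phi (M⁻¹ * letters z (x + 3) * M))
        rw [show letters z (x + 3) = 1 by simp [letters], mul_one, inv_mul_cancel, map_one]
        exact NetOf.one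
    have hn := (NetOf.flatMap hX r.1).pow r.2
    rw [show evW (fun x => phi (X x)) r.1 = phi (M⁻¹ * evW (letters z) r.1 * M) by
        rw [← map_evW phi X r.1]
        refine congrArg phi ?_
        have := map_evW ((MulAut.conj M⁻¹).toMonoidHom) (letters z) r.1
        simpa [X, MulAut.conj_apply] using this.symm,
      ← map_pow, show (M⁻¹ * evW (letters z) r.1 * M) ^ r.2 = M⁻¹ * evW (letters z) r.1 ^ r.2 * M by
        simpa using conj_pow (a := M⁻¹) (b := evW (letters z) r.1) (i := r.2),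
      hrel r hrm, mul_one, inv_mul_cancel, map_one] at hn
    exact hn.moves (p := ⟨_, hp⟩) hmv rfl
  · rw [h99, cond_true, Bool.or_eq_true] at ht
    rcases ht with ht | ht <;>
    · have := Nat.eq_of_beq_eq_true ht
      unfold idx3 at this
      omega

theorem rels_model : ∀ r ∈ relsJ, (evW (letters (el 4)) r.1) ^ r.2 = 1 := by
  intro r hr
  refine eq_of_nets (l' := []) ?_ (by rw [map_one]; exact NetOf.one) (List.all_eq_true.1 rels_ok r hr)
  rw [map_pow, map_evW]
  exact (NetOf.flatMap net_letters r.1).pow r.2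

theorem u_conj_mul (x z : R0) : el 3 * (x * z) * el 3 = el 3 * x * el 3 * (el 3 * z * el 3) := by
  rw [show el 3 * x * el 3 * (el 3 * z * el 3) = el 3 * x * (el 3 * el 3) * z * el 3 by simp only [mul_assoc],
    u_sq, mul_one, mul_assoc (el 3) x z]

theorem uyu : el 3 * el 0 * el 3 = el 0 := by rw [u_y, mul_assoc, u_sq, mul_one]

theorem uhu : el 3 * el 1 * el 3 = el 1 := by rw [u_h, mul_assoc, u_sq, mul_one]

theorem C3_u {x : R0} (hx : x ∈ C3) : el 3 * x * el 3 ∈ C3 := by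
  refine closure_pred (P := fun x => el 3 * x * el 3 ∈ C3) (by simp [u_sq]) (fun x z hx hz => ?_) ?_ hx
  · rw [u_conj_mul]
    exact C3.mul_mem hx hz
  · rintro _ ⟨k, hk, rfl⟩
    simp only [Set.mem_setOf_eq, List.mem_cons, List.not_mem_nil, or_false] at hk
    rcases hk with rfl | rfl | rfl
    · rw [uyu]; exact el_mem_gen (by decide)
    · rw [uhu]; exact el_mem_gen (by decide)
    · have hM : el 1 ^ 2 * el 0 ^ 5 ∈ C3 := N52_le_C3 (pow_mem_N52 2 5)
      rw [ueu]
      exact C3.mul_mem hM (C3.mul_mem (el_mem_gen (by decide)) (C3.inv_mem hM))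

namespace Emb

variable {Ω : Type*} {G : Subgroup (Equiv.Perm Ω)} {a : Ω} {E : Emb G a}

/-- the image of the third generator is among the listed conjugates -/
theorem sigma_e (hE : E.Based) {g : Equiv.Perm Ω} (hs : Swap E g) :
    ∃ (z : H) (k l i : ℕ), k < 9 ∧ l < 4 ∧ i < 13 ∧ E.A z = g * E.A eH * g⁻¹ ∧
      (z : R0) = el 1 ^ l * el 0 ^ i * (el (4 + k) * (el 1 ^ l * el 0 ^ i)⁻¹) := by
  have := finite_R0
  obtain ⟨hg, ga, gb, gy, gh⟩ := hs
  have hjC : elW eWord ∈ C3 := elW_mem fun k hk => el_mem_gen (by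
    simp only [eWord, List.mem_cons, List.not_mem_nil, or_false] at hk ⊢
    omega)
  let jH : H := ⟨elW eWord, (C3_le hjC).1⟩
  obtain ⟨z, hzC, hz⟩ := conj_mem hE hg ga gb (x := eH) (el_mem_gen (k := 4) (ks := [0, 1, 4]) (by decide))
  obtain ⟨zj, hzjC, hzj⟩ := conj_mem hE hg ga gb (x := jH) hjC
  have hzform : z = zj * hH ^ 2 * zj⁻¹ := E.inj (by
    rw [hz, show eH = jH * hH ^ 2 * jH⁻¹ from Subtype.ext (by simpa [z0] using e_conj), map_mul, map_mul,
      map_inv, map_mul, map_mul, map_inv, hzj, map_pow]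
    conv_rhs => rw [← gh, conj_pow]
    group)
  have hzZ : IsZ (z : R0) := by
    rw [hzform]
    simpa [z0] using isZ_z0.conj (C3_le hzjC).1
  have hzn : (z : R0) ∉ NY := by
    intro hn
    obtain ⟨r, hr⟩ := mem_NY.1 hn
    refine e_not_NY (mem_NY.2 ⟨r, ?_⟩)
    have h1 : E.A z * E.A yH = E.A yH ^ r * E.A z := by
      rw [← map_pow, ← map_mul, ← map_mul]; exact congrArg E.A (Subtype.ext (by simpa using hr))
    have h2 : eH * yH = yH ^ r * eH := E.inj (by
      rw [map_mul, map_mul, map_pow]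
      apply (MulAut.conj g).injective
      simp only [map_mul, map_pow, MulAut.conj_apply, gy, ← hz]
      exact h1)
    simpa using congrArg Subtype.val h2
  obtain ⟨n, hn, c, hc, e⟩ := z_cases hzZ
  obtain ⟨hnH, hnN⟩ := K156_le hn
  set J' := conjBy n⁻¹ C3
  have hJ' : J' ≤ H := fun t ht => by
    have h1 := (C3_le (mem_conjBy.1 ht)).1
    rw [inv_inv] at h1
    have := H.mul_mem (H.mul_mem (H.inv_mem hnH) h1) hnH
    simpa [mul_assoc] using this
  have hy' : el 0 ∈ J' := by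
    obtain ⟨r, hr⟩ := mem_NY.1 hnN
    rw [mem_conjBy, inv_inv, hr, mul_inv_cancel_right]
    exact C3.pow_mem (el_mem_gen (by decide)) r
  obtain ⟨hkind, hD, heq⟩ := cand_good hJ' ((card_conjBy n⁻¹ C3).trans card_C3) hy' hc
    (by rw [mem_conjBy, inv_inv, ← e]; exact hzC)
    (fun hcn => hzn (by rw [e]; exact NY.mul_mem (NY.mul_mem hnN hcn) (NY.inv_mem hnN)))
  set q := qs (kd c).2.1 with hq
  -- `n` sends the point of the table to `q1`
  have hnq : phi n q = q1 := by
    have key : ∀ x ∈ C3, phi x (phi n q) = phi n q := by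
      intro x hx
      have h1 : n⁻¹ * x * n ∈ J' := by rw [mem_conjBy]; simpa [mul_assoc] using hx
      have h2 := mem_St.1 (heq.le h1).2
      rw [map_mul, map_mul, map_inv, Equiv.Perm.mul_apply, Equiv.Perm.mul_apply, Equiv.Perm.inv_def,
        Equiv.symm_apply_eq] at h2
      exact h2
    rcases y_fix (by rw [D0_inv hnH]; exact hD) (key _ (el_mem_gen (k := 0) (by decide))) with e1 | e1 | e1
    · exact e1
    · exact absurd (e1 ▸ key _ (el_mem_gen (k := 4) (by decide))) e_moves.1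
    · exact absurd (e1 ▸ key _ (el_mem_gen (k := 4) (by decide))) e_moves.2
  have htag := List.all_eq_true.1 tag_ok c (List.mem_range.2 hc)
  rw [tagOK, hkind, show Nat.beq 1 1 = true from rfl, cond_true] at htag
  simp only [Bool.and_eq_true, Nat.blt_eq] at htag
  obtain ⟨⟨⟨⟨⟨-, hk⟩, -⟩, -⟩, hsend⟩, hsame⟩ := htag
  set j := (kd c).2.2.2.2.1
  set k := (kd c).2.2.2.2.2.1
  set l := (kd c).2.2.2.2.2.2.1
  set i := (kd c).2.2.2.2.2.2.2
  have hwq : phi (el 2 ^ j) q = q1 := by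
    rw [map_pow]
    exact ((net_el 2).pow j).sends (y := q) (x := q1) hsend
  have hcand : el 2 ^ j * (cand c * (el 2 ^ j)⁻¹) =
      el 1 ^ l * el 0 ^ i * (el (4 + k) * (el 1 ^ l * el 0 ^ i)⁻¹) := by
    refine eq_of_nets ?_ ?_ hsame <;> simp only [map_mul, map_inv, map_pow]
    · exact ((net_el 2).pow j).mul ((net_cand c).mul ((net_el 2).pow j).rev)
    · exact (((net_el 1).pow l).mul ((net_el 0).pow i)).mul
        ((net_el _).mul (((net_el 1).pow l).mul ((net_el 0).pow i)).rev)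
  have hm : n * (el 2 ^ j)⁻¹ ∈ N52 := by
    rw [← N52_eq.1, C3_eq]
    refine ⟨⟨H.mul_mem hnH (H.inv_mem (H.pow_mem (el_mem_H (by decide)) j)), mem_St.2 ?_⟩,
      NY.mul_mem hnN (NY.inv_mem (NY.pow_mem el2_NY j))⟩
    rw [map_mul, map_inv, Equiv.Perm.mul_apply, ← hwq, Equiv.Perm.inv_def, Equiv.symm_apply_apply, hnq, hwq]
  obtain ⟨l', i', hl', hi', eM⟩ := N52_form (N52.mul_mem hm (pow_mem_N52 l i))
  refine ⟨z, k, l', i', hk, hl', hi', hz, ?_⟩
  rw [e, ← eM, show n * cand c * n⁻¹ =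
    n * (el 2 ^ j)⁻¹ * (el 2 ^ j * (cand c * (el 2 ^ j)⁻¹)) * (n * (el 2 ^ j)⁻¹)⁻¹ by group, hcand]
  group

/-- conjugation by `g` agrees with conjugation by `u` on an element -/
def Agree (E : Emb G a) (g : Equiv.Perm Ω) (x : R0) : Prop :=
  ∃ (h : x ∈ H) (h' : el 3 * x * el 3 ∈ H), g * E.A ⟨x, h⟩ * g⁻¹ = E.A ⟨el 3 * x * el 3, h'⟩

theorem agree_one (E : Emb G a) (g : Equiv.Perm Ω) : Agree E g 1 := by
  have e : el 3 * 1 * el 3 = (1 : R0) := by rw [mul_one, u_sq]
  refine ⟨H.one_mem, e.symm ▸ H.one_mem, ?_⟩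
  have h1 : (⟨1, H.one_mem⟩ : H) = 1 := Subtype.ext (Subgroup.coe_one H).symm
  have h2 : (⟨el 3 * 1 * el 3, e.symm ▸ H.one_mem⟩ : H) = 1 := Subtype.ext (e.trans (Subgroup.coe_one H).symm)
  refine (congrArg (fun t => g * t * g⁻¹) ((congrArg E.A h1).trans (map_one E.A))).trans
    (Eq.trans ?_ ((congrArg E.A h2).trans (map_one E.A)).symm)
  show g * 1 * g⁻¹ = 1
  rw [mul_one, mul_inv_cancel]

theorem Agree.mul {g : Equiv.Perm Ω} {x z : R0} (hx : Agree E g x) (hz : Agree E g z) : Agree E g (x * z) := by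
  obtain ⟨h1, h1', e1⟩ := hx
  obtain ⟨h2, h2', e2⟩ := hz
  have hm : el 3 * (x * z) * el 3 ∈ H := (u_conj_mul x z).symm ▸ H.mul_mem h1' h2'
  refine ⟨H.mul_mem h1 h2, hm, ?_⟩
  have ea : (⟨x * z, H.mul_mem h1 h2⟩ : H) = ⟨x, h1⟩ * ⟨z, h2⟩ := Subtype.ext (Subgroup.coe_mul H ⟨x, h1⟩ ⟨z, h2⟩).symm
  have eb : (⟨el 3 * (x * z) * el 3, hm⟩ : H) = ⟨el 3 * x * el 3, h1'⟩ * ⟨el 3 * z * el 3, h2'⟩ :=
    Subtype.ext ((u_conj_mul x z).trans (Subgroup.coe_mul H ⟨el 3 * x * el 3, h1'⟩ ⟨el 3 * z * el 3, h2'⟩).symm)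
  refine (congrArg (fun t => g * t * g⁻¹) ((congrArg E.A ea).trans (map_mul E.A _ _))).trans
    (Eq.trans ?_ ((congrArg E.A eb).trans (map_mul E.A _ _)).symm)
  rw [← e1, ← e2]
  simp only [mul_assoc, inv_mul_cancel_left]

/-- `g` fixes the point of a representative whose stabiliser it centralises -/
theorem fix_point (hE : E.Based) {g : Equiv.Perm Ω} (ga : g a = E.b) (gb : g E.b = a) {r : Pt} (hr : H)
    (hrq : phi (hr : R0) q1 = r) (hr1 : r ≠ q1) (k1 k2 : H) (c1 : Commute g (E.A k1)) (c2 : Commute g (E.A k2))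
    (f : (phi (k1 : R0) r = r ∧ phi (k2 : R0) r = r) ∧ ∀ q : Pt, phi (k1 : R0) q = q → phi (k2 : R0) q = q →
      (D0.testBit q = true → q = q1 ∨ q = r) ∧ D1.testBit q = false) :
    g (E.A hr E.b) = E.A hr E.b := by
  obtain ⟨⟨f1, f2⟩, f3⟩ := f
  set Q := E.A hr E.b with hQ
  have hfix : ∀ k : H, Commute g (E.A k) → phi (k : R0) r = r → E.A k (g Q) = g Q := fun k ck fk => by
    rw [← Equiv.Perm.mul_apply, ← ck.eq, Equiv.Perm.mul_apply]
    refine congrArg g ?_
    rw [hQ, ← Equiv.Perm.mul_apply, ← map_mul, pt_iff hE, Subgroup.coe_mul, map_mul, Equiv.Perm.mul_apply, hrq, fk]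
  have e1 := hfix k1 c1 f1
  have e2 := hfix k2 c2 f2
  rcases E.cases (g Q) with h | h | h
  · exfalso
    have : E.A hr E.b = E.b := g.injective (h.trans gb.symm)
    exact hr1 (hrq.symm.trans ((hE hr).1 this))
  · obtain ⟨x, hx⟩ := h
    dsimp only at hx
    rw [← hx, ← Equiv.Perm.mul_apply, ← map_mul, pt_iff hE, Subgroup.coe_mul, map_mul, Equiv.Perm.mul_apply] at e1 e2
    rcases (f3 _ e1 e2).1 (by rw [D0_inv x.2]; exact D0_q1) with e | e
    · exfalso
      have hQa : Q = a := g.injective (hx.symm.trans (((hE x).2 e).trans ga.symm))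
      exact E.ne_ab ((E.A hr).injective ((hQ.symm.trans hQa).trans (E.fix hr).symm))
    · rw [← hx, hQ, pt_iff hE, e, hrq]
  · exfalso
    obtain ⟨p, hp, hP⟩ := parabolic (E.stabOf_le (g Q)) (E.card_stab_c h)
    have h1 := mem_St.1 (hP.le ((E.coe_mem_stabOf k1).2 e1)).2
    have h2 := mem_St.1 (hP.le ((E.coe_mem_stabOf k2).2 e2)).2
    rw [(f3 p h1 h2).2] at hp
    exact absurd hp (by decide)

theorem exists_norm (hE : E.Based) : ∃ g, Swap E g ∧ ∀ x ∈ C3, Agree E g x := by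
  obtain ⟨g, hs⟩ := exists_swap_yh hE
  obtain ⟨z, k, l, i, hk, hl, hi, hz, hze⟩ := sigma_e hE hs
  have hsP := swap_P hE hs.zero
  have hgwg := gwg hE hs
  obtain ⟨hg, ga, gb, gy, gh⟩ := hs
  refine ⟨g, ⟨hg, ga, gb, gy, gh⟩, ?_⟩
  let L : H → ℕ → H := fun Z x => [yH, hH, Z].getD x 1
  have hcoe : ∀ Z : H, (fun x => ((L Z x : H) : R0)) = letters (Z : R0) := fun Z => funext fun x => by
    rcases x with _ | _ | _ | x <;> simp [L, letters]
  have hstep : ∀ x, g * E.A (L eH x) * g⁻¹ = E.A (L z x) := by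
    rintro (_ | _ | _ | x)
    exacts [gy, gh, hz.symm, by simp [L]]
  have hrel : ∀ r ∈ relsJ, (evW (letters (z : R0)) r.1) ^ r.2 = 1 := by
    intro r hr
    have h1 : evW (L eH) r.1 ^ r.2 = 1 := Subtype.ext (by
      rw [SubgroupClass.coe_pow, Subgroup.coe_one, ← Subgroup.coe_subtype, map_evW]
      exact (congrArg (fun f => evW f r.1 ^ r.2) (hcoe eH)).trans (rels_model r hr))
    have h2 : E.A (evW (L z) r.1) = g * E.A (evW (L eH) r.1) * g⁻¹ := by
      rw [map_evW, show g * E.A (evW (L eH) r.1) * g⁻¹ = ((MulAut.conj g).toMonoidHom.comp E.A) (evW (L eH) r.1)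
        from rfl, map_evW]
      exact congrArg (fun f => evW f r.1) (funext fun x => (hstep x).symm)
    have h3 : evW (L z) r.1 ^ r.2 = 1 := E.inj (by
      rw [map_pow, h2, conj_pow, ← map_pow, h1, map_one, mul_one, mul_inv_cancel])
    have h4 := congrArg Subtype.val h3
    rw [SubgroupClass.coe_pow, Subgroup.coe_one, ← Subgroup.coe_subtype, map_evW] at h4
    exact (congrArg (fun f => evW f r.1 ^ r.2) (hcoe z)).symm.trans h4
  rcases survivors hk hl hi hze hrel with ⟨rfl, rfl, rfl⟩ | ⟨rfl, rfl, rfl⟩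
  · exfalso
    have ge : Commute g (E.A eH) := commute_of (hz.symm.trans (congrArg E.A (Subtype.ext (by simpa using hze))))
    have key : ∀ x ∈ C3, ∃ h : x ∈ H, Commute g (E.A ⟨x, h⟩) := by
      intro x hx
      refine closure_pred (P := fun x => ∃ h : x ∈ H, Commute g (E.A ⟨x, h⟩))
        ⟨H.one_mem, by rw [show (⟨1, H.one_mem⟩ : H) = 1 from rfl, map_one]; exact Commute.one_right g⟩
        (fun x z hx hz => ?_) ?_ hx
      · obtain ⟨h1, e1⟩ := hx
        obtain ⟨h2, e2⟩ := hz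
        refine ⟨H.mul_mem h1 h2, ?_⟩
        rw [show (⟨x * z, H.mul_mem h1 h2⟩ : H) = ⟨x, h1⟩ * ⟨z, h2⟩ from rfl, map_mul]
        exact e1.mul_right e2
      · rintro _ ⟨k, hk, rfl⟩
        simp only [Set.mem_setOf_eq, List.mem_cons, List.not_mem_nil, or_false] at hk
        rcases hk with rfl | rfl | rfl
        exacts [⟨yH.2, commute_of gy⟩, ⟨hH.2, commute_of gh⟩, ⟨eH.2, ge⟩]
    obtain ⟨h19, h3, -⟩ := h_pts
    let r19 : H := ⟨el 18, el_mem_H (by decide)⟩
    let r3 : H := ⟨el 19, el_mem_H (by decide)⟩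
    obtain ⟨_, c13⟩ := key _ (F_fix (k := 13) (by norm_num) (by norm_num))
    obtain ⟨_, c14⟩ := key _ (F_fix (k := 14) (by norm_num) (by norm_num))
    obtain ⟨_, c15⟩ := key _ (F_fix (k := 15) (by norm_num) (by norm_num))
    obtain ⟨_, c16⟩ := key _ (F_fix (k := 16) (by norm_num) (by norm_num))
    have e19 := fix_point hE ga gb r19 h19 (by decide) _ _ c13 c14 L19_fix
    have e3 := fix_point hE ga gb r3 h3 (by decide) _ _ c15 c16 L3_fix
    obtain ⟨⟨j, hj, hje⟩, ⟨j', hj', hje'⟩⟩ := w19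
    obtain ⟨hjH, cj⟩ := key j hj
    obtain ⟨hj'H, cj'⟩ := key j' hj'
    set W := E.A wH with hW
    have eW : W (E.A r19 E.b) = E.A ⟨j, hjH⟩ (E.A r3 E.b) := by
      rw [hW, ← Equiv.Perm.mul_apply, ← map_mul, ← Equiv.Perm.mul_apply (E.A _), ← map_mul, pt_iff hE]
      simp only [Subgroup.coe_mul, map_mul, Equiv.Perm.mul_apply, r19, r3, h19, h3, hje]
    have eWW : W (W (E.A r19 E.b)) = E.A ⟨j', hj'H⟩ (E.P 1) := by
      rw [P, hW, ← Equiv.Perm.mul_apply (E.A wH), ← map_mul, ← Equiv.Perm.mul_apply, ← map_mul,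
        ← Equiv.Perm.mul_apply (E.A _), ← map_mul, pt_iff hE]
      simp only [Subgroup.coe_mul, map_mul, Equiv.Perm.mul_apply, r19, h19, pow_one, w_pts.1, hje',
        SubgroupClass.coe_pow]
      rw [pow_two, map_mul, Equiv.Perm.mul_apply]
    have hgW : g (W (E.A r19 E.b)) = W (E.A r19 E.b) := by
      rw [eW, ← Equiv.Perm.mul_apply, cj.eq, Equiv.Perm.mul_apply, e3]
    have h := congrArg (fun s : Equiv.Perm Ω => s (E.A r19 E.b)) hgwg
    rw [show E.A (wH ^ 2) = W * W by rw [hW, ← map_mul, ← pow_two]] at h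
    simp only [Equiv.Perm.mul_apply, e19] at h
    rw [hgW] at h
    have h' : W (g (W (W (E.A r19 E.b)))) = E.A r19 E.b := W.injective h.symm
    have hW3 : W (W (W (E.A r19 E.b))) = E.A r19 E.b := by
      rw [hW, ← Equiv.Perm.mul_apply, ← map_mul, ← Equiv.Perm.mul_apply, ← map_mul, ← pow_two, ← pow_succ,
        wH_three, map_one, Equiv.Perm.one_apply]
    have h2 := W.injective (h'.trans hW3.symm)
    rw [eWW, ← Equiv.Perm.mul_apply, cj'.eq, Equiv.Perm.mul_apply, hsP.1] at h2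
    have h3' := (E.A _).injective h2
    rw [P, P, pt_iff hE, SubgroupClass.coe_pow, SubgroupClass.coe_pow, pow_one, w_pts.1, w_sq_q1] at h3'
    exact absurd h3' (by decide)
  · have huz : (z : R0) = el 3 * el 4 * el 3 := by rw [ueu, hze]
    intro x hx
    refine closure_pred (P := Agree E g) (agree_one E g) (fun x z hx hz => Agree.mul hx hz) ?_ hx
    rintro _ ⟨k, hk, rfl⟩
    simp only [Set.mem_setOf_eq, List.mem_cons, List.not_mem_nil, or_false] at hk
    rcases hk with rfl | rfl | rfl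
    · exact ⟨yH.2, uyu.symm ▸ yH.2, gy.trans (congrArg E.A (Subtype.ext uyu.symm))⟩
    · exact ⟨hH.2, uhu.symm ▸ hH.2, gh.trans (congrArg E.A (Subtype.ext uhu.symm))⟩
    · exact ⟨eH.2, huz ▸ z.2, hz.symm.trans (congrArg E.A (Subtype.ext huz))⟩

end Emb

end CfsgLib.RuRankThree
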