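import Cfsg.Agent.Lib.RuRankThree.Model

/-!
Stabilisers and orbits in the group on 4060 points, and its point stabiliser.
-/
set_option autoImplicit false
set_option maxRecDepth 8000
set_option Elab.async false

namespace CfsgLib.RuRankThree

open CfsgLib.Presented CfsgLib.Presented.Vec

/-- the stabiliser of a point -/
noncomputable abbrev St (p : Pt) : Subgroup R0 := (MulAction.stabilizer Pm p).comap phi

theorem mem_St {g : R0} {p : Pt} : g ∈ St p ↔ phi g p = p := Iff.rfl

/-- a step of growing a set by networks -/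
noncomputable def step (ls : List (List Stage)) (S : ℕ) : ℕ :=
  ls.foldr (fun l T => force T fun T => Nat.lor T (applyNet l T)) S

/-- growing a set -/
noncomputable def grow (ls : List (List Stage)) (S : ℕ) : ℕ → ℕ
  | 0 => S
  | k + 1 => force (grow ls S k) fun T => step ls T

theorem step_spec {K : Subgroup R0} {T : ℕ} : ∀ {ls : List (List Stage)},
    (∀ l ∈ ls, ∃ g ∈ K, NetOf l (phi g)) → ∀ {j : Pt}, (step ls T).testBit j = true →
      ∃ g ∈ K, T.testBit (phi g j) = true
  | [], _, j, hb => ⟨1, K.one_mem, by rw [map_one]; exact hb⟩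
  | l :: ls, h, j, hb => by
    obtain ⟨g, hg, hn⟩ := h l List.mem_cons_self
    have ih := @step_spec K T ls fun m hm => h m (List.mem_cons_of_mem _ hm)
    rw [step, List.foldr_cons, force_eq, show ∀ a b : ℕ, Nat.lor a b = a ||| b from fun _ _ => rfl,
      Nat.testBit_or, Bool.or_eq_true, hn.bit] at hb
    rcases hb with hb | hb
    · exact ih hb
    · obtain ⟨g', hg', hb'⟩ := ih hb
      exact ⟨g' * g, K.mul_mem hg' hg, by rw [map_mul, Equiv.Perm.mul_apply]; exact hb'⟩

theorem grow_spec {K : Subgroup R0} {ls : List (List Stage)}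
    (h : ∀ l ∈ ls, ∃ g ∈ K, NetOf l (phi g)) {S : ℕ} : ∀ {k : ℕ} {j : Pt},
    (grow ls S k).testBit j = true → ∃ g ∈ K, S.testBit (phi g j) = true
  | 0, j, hb => ⟨1, K.one_mem, by rw [map_one]; exact hb⟩
  | k + 1, j, hb => by
    rw [grow, force_eq] at hb
    obtain ⟨g, hg, hb⟩ := step_spec h hb
    obtain ⟨g', hg', hb'⟩ := grow_spec h hb
    exact ⟨g' * g, K.mul_mem hg' hg, by rw [map_mul, Equiv.Perm.mul_apply]; exact hb'⟩

theorem grow_one {K : Subgroup R0} {ls : List (List Stage)}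
    (h : ∀ l ∈ ls, ∃ g ∈ K, NetOf l (phi g)) {p : Pt} {k : ℕ} {j : Pt}
    (hb : (grow ls (one1 p) k).testBit j = true) : ∃ g ∈ K, phi g p = j := by
  obtain ⟨g, hg, hb⟩ := grow_spec h hb
  rw [testBit_one1, decide_eq_true_eq] at hb
  refine ⟨g⁻¹, K.inv_mem hg, ?_⟩
  rw [map_inv]
  exact (Equiv.symm_apply_eq _).2 (Fin.ext hb).symm

/-- the orbit as a finset -/
noncomputable def orbitF (K : Subgroup R0) (p : Pt) : Finset (Pt) := by
  classical exact Finset.univ.filter fun j => ∃ g ∈ K, phi g p = j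

theorem mem_orbitF {K : Subgroup R0} {p j : Pt} :
    j ∈ orbitF K p ↔ ∃ g ∈ K, phi g p = j := by
  classical simp [orbitF]

theorem card_eq_orbit (K : Subgroup R0) (p : Pt) :
    Nat.card K = (orbitF K p).card * Nat.card (K ⊓ St p : Subgroup R0) := by
  let _ : MulAction K (Pt) := MulAction.compHom _ (phi.comp K.subtype)
  have ho : Nat.card (MulAction.orbit K p) = (orbitF K p).card := by
    rw [← Nat.card_eq_finsetCard]
    refine Nat.card_congr (Equiv.subtypeEquivRight fun j => ?_)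
    rw [mem_orbitF]
    exact ⟨fun ⟨g, e⟩ => ⟨g.1, g.2, e⟩, fun ⟨g, hg, e⟩ => ⟨⟨g, hg⟩, e⟩⟩
  have hs : Nat.card (MulAction.stabilizer K p) = Nat.card (K ⊓ St p : Subgroup R0) :=
    Nat.card_congr ⟨fun g => ⟨g.1.1, g.1.2, g.2⟩, fun g => ⟨⟨g.1, g.2.1⟩, g.2.2⟩, fun _ => rfl, fun _ => rfl⟩
  rw [(MulAction.stabilizer K p).card_eq_card_quotient_mul_card_subgroup, ← hs, ← ho,
    Nat.card_congr (MulAction.orbitEquivQuotientStabilizer K p)]

/-- the points of a mask -/
def ptsOf (M : ℕ) : Finset (Pt) := Finset.univ.filter fun j => M.testBit j = true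

theorem card_ptsOf (M : ℕ) : (ptsOf M).card = bitCount M 4060 := by
  rw [bitCount_eq]
  refine Finset.card_bij (fun j _ => (j : ℕ)) ?_ (fun a _ b _ e => Fin.ext e) ?_
  · intro j hj
    simp only [ptsOf, Finset.mem_filter, Finset.mem_univ, true_and] at hj
    simp [hj]
  · intro i hi
    simp only [Finset.mem_filter, Finset.mem_range] at hi
    exact ⟨⟨i, hi.1⟩, by simp [ptsOf, hi.2], rfl⟩

theorem bitCount_le_orbit {K : Subgroup R0} {p : Pt} {M : ℕ}
    (h : ∀ j : Pt, M.testBit j = true → ∃ g ∈ K, phi g p = j) :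
    bitCount M 4060 ≤ (orbitF K p).card := by
  rw [← card_ptsOf]
  refine Finset.card_le_card fun j hj => mem_orbitF.2 (h j ?_)
  simpa [ptsOf] using hj

theorem card_of_orbit {K : Subgroup R0} {p : Pt} {M n : ℕ}
    (hinv : ∀ g ∈ K, M.testBit (phi g p) = true)
    (h : ∀ j : Pt, M.testBit j = true → ∃ g ∈ K, phi g p = j) (hn : bitCount M 4060 = n) :
    Nat.card K = n * Nat.card (K ⊓ St p : Subgroup R0) := by
  refine (card_eq_orbit K p).trans (congrArg (· * Nat.card (K ⊓ St p : Subgroup R0)) ?_)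
  refine (le_antisymm ?_ (bitCount_le_orbit h)).trans hn
  refine le_of_le_of_eq ?_ (card_ptsOf M)
  refine Finset.card_le_card fun j hj => ?_
  obtain ⟨g, hg, rfl⟩ := mem_orbitF.1 hj
  simpa [ptsOf] using hinv g hg

theorem mul_card_le {K L : Subgroup R0} {p : Pt} (hLK : L ≤ K) (hL : L ≤ St p)
    {ls : List (List Stage)} (hls : ∀ l ∈ ls, ∃ g ∈ K, NetOf l (phi g)) {k n : ℕ}
    (hn : Nat.ble n (bitCount (grow ls (one1 p) k) 4060) = true) : n * Nat.card L ≤ Nat.card K := by
  have := finite_R0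
  rw [card_eq_orbit K p]
  refine Nat.mul_le_mul ((Nat.ble_eq.mp hn).trans (bitCount_le_orbit fun j hj => grow_one hls hj)) ?_
  exact Subgroup.card_le_of_le (le_inf hLK hL)

theorem elW_mem {K : Subgroup R0} : ∀ {w : List ℕ}, (∀ k ∈ w, el k ∈ K) → elW w ∈ K
  | [], _ => K.one_mem
  | x :: w, h => by
    rw [elW, evW_cons]
    exact K.mul_mem (h x List.mem_cons_self) (elW_mem fun k hk => h k (List.mem_cons_of_mem _ hk))

theorem sendsW {w : List ℕ} {x y : Pt} (h : sendsB (flatN w) x y = true) : phi (elW w) x = y :=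
  (net_elW w).sends h

theorem sendsE {k : ℕ} {x y : Pt} (h : sendsB (netEl k) x y = true) : phi (el k) x = y := (net_el k).sends h

theorem closure_pred {S : Set R0} {P : R0 → Prop} (h1 : P 1)
    (hm : ∀ a b, P a → P b → P (a * b)) (hg : ∀ a ∈ S, P a) {x : R0}
    (hx : x ∈ Subgroup.closure S) : P x := by
  have := finite_R0
  rw [← Subgroup.mem_toSubmonoid, Subgroup.closure_toSubmonoid_of_finite] at hx
  induction hx using Submonoid.closure_induction with
  | mem y hy => exact hg y hy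
  | one => exact h1
  | mul a b _ _ ha hb => exact hm a b ha hb

/-- the group generated by some named elements -/
noncomputable def gen (ks : List ℕ) : Subgroup R0 := Subgroup.closure (el '' {k | k ∈ ks})

theorem el_mem_gen {ks : List ℕ} {k : ℕ} (h : k ∈ ks) : el k ∈ gen ks := Subgroup.subset_closure ⟨k, h, rfl⟩

theorem gen_nets (ks : List ℕ) : ∀ l ∈ ks.map netEl, ∃ g ∈ gen ks, NetOf l (phi g) := by
  intro l hl
  obtain ⟨k, hk, rfl⟩ := List.mem_map.1 hl
  exact ⟨el k, el_mem_gen hk, net_el k⟩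

theorem gen_le {ks : List ℕ} {K : Subgroup R0} (h : ∀ k ∈ ks, el k ∈ K) : gen ks ≤ K := by
  refine (Subgroup.closure_le _).2 ?_
  rintro _ ⟨k, hk, rfl⟩
  exact h k hk

/-- the networks keep the set -/
noncomputable def keepsB (ls : List (List Stage)) (M : ℕ) : Bool := ls.all fun l => agreeOn 4060 (applyNet l M) M

theorem gen_keeps {ks : List ℕ} {M : ℕ} (h : keepsB (ks.map netEl) M = true) {x : R0} (hx : x ∈ gen ks) :
    ∀ j : Pt, M.testBit (phi x j) = M.testBit j := by
  refine closure_pred (P := fun x => ∀ j : Pt, M.testBit (phi x j) = M.testBit j) (fun j => by rw [map_one]; rfl)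
    (fun a b ha hb j => by rw [map_mul, Equiv.Perm.mul_apply, ha, hb]) ?_ hx
  rintro _ ⟨k, hk, rfl⟩ j
  rw [← (net_el k).bit]
  exact agreeOn_spec (List.all_eq_true.1 h _ (List.mem_map_of_mem hk)) j.2

/-- A finite subgroup with no elements of order 169 has all subgroups of order 13 conjugate. -/
theorem conj_thirteen {L : Subgroup R0} (hL : ¬ 169 ∣ Nat.card L) {y z : R0}
    (hy : y ∈ L) (hz : z ∈ L) (oy : orderOf y = 13) (oz : orderOf z = 13) :
    ∃ x ∈ L, ∃ i : ℕ, x * y * x⁻¹ = z ^ i := by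
  have := finite_R0
  have : Fact (Nat.Prime 13) := ⟨by norm_num⟩
  have key : ∀ t : L, orderOf t = 13 → ∃ P : Sylow 13 L, (P : Subgroup L) = Subgroup.zpowers t := by
    intro t ht
    have hp : IsPGroup 13 (Subgroup.zpowers t) :=
      IsPGroup.of_card (n := 1) (by rw [Nat.card_zpowers, ht, pow_one])
    obtain ⟨P, hP⟩ := hp.exists_le_sylow
    refine ⟨P, (Subgroup.eq_of_le_of_card_ge hP ?_).symm⟩
    obtain ⟨n, hn⟩ := IsPGroup.iff_card.1 P.isPGroup'
    have hd : 13 ^ n ∣ Nat.card L := hn ▸ Subgroup.card_subgroup_dvd_card _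
    rw [Nat.card_zpowers, ht, hn]
    rcases Nat.lt_or_ge n 2 with h | h
    · calc 13 ^ n ≤ 13 ^ 1 := Nat.pow_le_pow_right (by norm_num) (Nat.lt_succ_iff.1 h)
        _ = 13 := pow_one 13
    · exact absurd (dvd_trans (pow_dvd_pow 13 h) hd) hL
  obtain ⟨P, hP⟩ := key ⟨y, hy⟩ (by rw [← oy]; exact (Subgroup.orderOf_coe _).symm)
  obtain ⟨Q, hQ⟩ := key ⟨z, hz⟩ (by rw [← oz]; exact (Subgroup.orderOf_coe _).symm)
  obtain ⟨g, hg⟩ := MulAction.exists_smul_eq L P Q
  have h1 : g * ⟨y, hy⟩ * g⁻¹ ∈ (Q : Subgroup L) := by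
    rw [← hg, Sylow.coe_subgroup_smul]
    refine Subgroup.mem_map.2 ⟨⟨y, hy⟩, hP ▸ Subgroup.mem_zpowers _, ?_⟩
    simp [MulAut.conj_apply]
  rw [hQ, ← mem_powers_iff_mem_zpowers, Submonoid.mem_powers_iff] at h1
  obtain ⟨i, hi⟩ := h1
  exact ⟨g, g.2, i, by simpa using congrArg Subtype.val hi.symm⟩

/-! ### The point stabiliser and its orbits -/

/-- the base point -/
abbrev p0 : Pt := ⟨0, by norm_num⟩
/-- its distinguished neighbour -/
abbrev q1 : Pt := ⟨1, by norm_num⟩
/-- the second fixed point of the element of order 13 -/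
abbrev qP1 : Pt := ⟨2215, by norm_num⟩
/-- the third one -/
abbrev qP2 : Pt := ⟨3034, by norm_num⟩
/-- a point of the smaller suborbit -/
abbrev q550 : Pt := ⟨550, by norm_num⟩

/-- the point stabiliser -/
noncomputable abbrev H : Subgroup R0 := St p0

/-- its generators -/
def hGens : List ℕ := [21, 22, 0, 1, 4]

theorem fix_ok : ((List.range 80).all (fun k => Nat.beq k 3 || sendsB (netEl k) 0 0) &&
    sendsB (netEl 3) 0 1 && sendsB (netEl 3) 1 0 &&
    [0, 1, 4].all (fun k => sendsB (netEl k) 1 1) &&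
    [0, 1].all (fun k => sendsB (netEl k) 2215 2215) &&
    keepsB (hGens.map netEl) D0 && keepsB (hGens.map netEl) D1) = true := by decide +kernel

theorem el_mem_H {k : ℕ} (hk : k ≠ 3) : el k ∈ H := by
  rcases lt_or_ge k 80 with h | h
  · have h' := fix_ok
    simp only [Bool.and_eq_true, List.all_eq_true (l := List.range 80), List.mem_range] at h'
    have := h'.1.1.1.1.1.1 k h
    rw [Bool.or_eq_true] at this
    rcases this with e | e
    · exact absurd (Nat.eq_of_beq_eq_true e) hk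
    · exact sendsE (x := p0) (y := p0) e
  · rw [(el_ge h).1]
    exact H.one_mem

theorem u_swap : phi (el 3) p0 = q1 ∧ phi (el 3) q1 = p0 := by
  have h := fix_ok
  simp only [Bool.and_eq_true] at h
  exact ⟨sendsE (x := p0) (y := q1) h.1.1.1.1.1.2, sendsE (x := q1) (y := p0) h.1.1.1.1.2⟩

theorem orbit_ok :
    (Nat.beq (Nat.land (grow ((hGens ++ [3]).map netEl) (one1 0) 7) (ones 4060)) (ones 4060) &&
      Nat.ble 300 (bitCount (grow ([0, 1, 4].map netEl) (one1 2215) 5) 4060) &&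
      Nat.beq (Nat.land (grow (hGens.map netEl) (one1 1) 10) D0) D0 &&
      Nat.beq (Nat.land (grow (hGens.map netEl) (one1 550) 10) D1) D1 &&
      Nat.beq (bitCount D0 4060) 2304 && Nat.beq (bitCount D1 4060) 1755 &&
      Nat.beq (Nat.lor 1 (Nat.lor D0 D1)) (ones 4060) &&
      Nat.beq (Nat.land D0 D1) 0 && !(D0.testBit 0) && !(D1.testBit 0) && D0.testBit 1 && D1.testBit 550) = true := by
  decide +kernel

theorem trans_p0 (j : Pt) : ∃ g : R0, phi g p0 = j := by
  have h := orbit_ok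
  simp only [Bool.and_eq_true] at h
  obtain ⟨g, -, e⟩ := grow_one (p := p0) (gen_nets _)
    (sub_of_land (b := ones 4060) h.1.1.1.1.1.1.1.1.1.1.1 (testBit_all j))
  exact ⟨g, e⟩

theorem card_H : Nat.card H = 35942400 := by
  have h := card_eq_orbit ⊤ p0
  have ht : (⊤ : Subgroup R0) ⊓ St p0 = H := inf_eq_right.2 le_top
  rw [ht] at h
  have ho : (orbitF ⊤ p0).card = 4060 := by
    have : orbitF ⊤ p0 = Finset.univ :=
      Finset.eq_univ_of_forall fun j => mem_orbitF.2 ⟨_, Subgroup.mem_top _, (trans_p0 j).choose_spec⟩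
    rw [this, Finset.card_univ, Fintype.card_fin]
  rw [ho] at h
  refine Nat.eq_of_mul_eq_mul_left (show 0 < 4060 by norm_num) (h.symm.trans ?_)
  exact (Subgroup.card_top.trans card_R0).trans (by norm_num)

end CfsgLib.RuRankThree
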